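import Mathlib

/-!
# Fixed points of an `r`-group acting on a group of order prime to `r`
-/

set_option autoImplicit false

namespace Cfsg.Agent.H255.Cop

variable {G : Type*} [Group G]

/-- the fixed points of a group of automorphisms -/
def fix (A : Subgroup (MulAut G)) : Subgroup G where
  carrier := {x | ∀ a ∈ A, a x = x}
  one_mem' := fun a _ => map_one a
  mul_mem' := fun {x y} hx hy a ha => by rw [map_mul, hx a ha, hy a ha]
  inv_mem' := fun {x} hx a ha => by rw [map_inv, hx a ha]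

theorem mem_fix {A : Subgroup (MulAut G)} {x : G} : x ∈ fix A ↔ ∀ a ∈ A, a x = x := Iff.rfl

/-- An `r`-group of automorphisms has a fixed point in every stable set of size prime to `r`. -/
theorem exists_fixed {r : ℕ} [hr : Fact r.Prime] {A : Subgroup (MulAut G)} (hA : IsPGroup r A) (S : Set G)
    (hst : ∀ a ∈ A, ∀ x ∈ S, a x ∈ S) (hc : ¬ r ∣ Nat.card S) : ∃ x ∈ S, x ∈ fix A := by
  let act : MulAction A S :=
    { smul := fun a x => ⟨a.1 x.1, hst a.1 a.2 x.1 x.2⟩
      one_smul := fun x => Subtype.ext rfl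
      mul_smul := fun a b x => Subtype.ext rfl }
  obtain ⟨x, hx⟩ := hA.nonempty_fixed_point_of_prime_not_dvd_card (α := S) hc
  exact ⟨x.1, x.2, fun a ha => congrArg Subtype.val (hx ⟨a, ha⟩)⟩

/-- fixed points in stable cosets -/
theorem exists_fixed_coset [Finite G] {r : ℕ} [hr : Fact r.Prime] (hG : ¬ r ∣ Nat.card G) {A : Subgroup (MulAut G)}
    (hA : IsPGroup r A) (H : Subgroup G) (hH : ∀ a ∈ A, ∀ x ∈ H, a x ∈ H) (g : G) (hg : ∀ a ∈ A, g⁻¹ * a g ∈ H) :
    ∃ x ∈ fix A, g⁻¹ * x ∈ H := by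
  obtain ⟨x, hx, hxA⟩ := exists_fixed hA {x : G | g⁻¹ * x ∈ H} (fun a ha x hx => by
    have h1 : g⁻¹ * a x = (g⁻¹ * a g) * a (g⁻¹ * x) := by rw [map_mul, map_inv]; group
    change g⁻¹ * a x ∈ H
    rw [h1]
    exact mul_mem (hg a ha) (hH a ha _ hx)) (by
    have e : {x : G | g⁻¹ * x ∈ H} ≃ H :=
      { toFun := fun x => ⟨g⁻¹ * x.1, x.2⟩
        invFun := fun h => ⟨g * h.1, by
          change g⁻¹ * (g * h.1) ∈ H
          rw [inv_mul_cancel_left]
          exact h.2⟩
        left_inv := fun x => Subtype.ext (by simp)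
        right_inv := fun h => Subtype.ext (by simp) }
    rw [Nat.card_congr e]
    exact fun h => hG (h.trans (Subgroup.card_subgroup_dvd_card _)))
  exact ⟨x, hxA, hx⟩

/-- conjugating a group of automorphisms -/
theorem fix_map (A : Subgroup (MulAut G)) (β : MulAut G) (x : G) :
    x ∈ fix (A.map (MulAut.conj β).toMonoidHom) ↔ β⁻¹ x ∈ fix A := by
  constructor
  · intro h a ha
    have h1 := h (β * a * β⁻¹) ⟨a, ha, rfl⟩
    have h2 : β (a (β⁻¹ x)) = x := h1
    apply β.injective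
    rw [h2, MulAut.apply_inv_self]
  · rintro h _ ⟨a, ha, rfl⟩
    have h1 := h a ha
    change β (a (β⁻¹ x)) = x
    rw [h1, MulAut.apply_inv_self]

end Cfsg.Agent.H255.Cop
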