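import Mathlib

/-!
# Galois descent for coprime groups of automorphisms

`descent` : `W` a finite abelian group, `T` an abelian group of automorphisms, irreducible on `W`; `A` an `r`-group of
automorphisms normalising `T` with a nontrivial fixed point; `z` an automorphism normalising `T`, commuting with `A`, with
`z ^ m = 1`, `r` not dividing `m`, fixing every fixed point of `A`.  Then `z = 1`.

(The endomorphisms generated by `T` form a finite field `R`, `W` is a line over `R`; `z` acts on `R` as an element of the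
Galois group of `R` over the fixed field of `A`.)
-/

set_option autoImplicit false

namespace Cfsg.Agent.H255.Galois

/-- The Galois group of a field over the fixed field of a finite group is the image of the group. -/
theorem exists_smul_eq {R Γ : Type*} [Field R] [Group Γ] [Finite Γ] [MulSemiringAction Γ R] (τ : R ≃+* R)
    (hτ : ∀ x, (∀ g : Γ, g • x = x) → τ x = x) : ∃ g : Γ, ∀ x, τ x = g • x := by
  let f : R ≃ₐ[FixedPoints.subfield Γ R] R :=
    AlgEquiv.ofRingEquiv (f := τ) (fun ⟨x, hx⟩ ↦ hτ x fun g ↦ hx g)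
  obtain ⟨g, hg⟩ := FixedPoints.toAlgAut_surjective Γ R f
  exact ⟨g, fun x => (congrArg (fun k : R ≃ₐ[FixedPoints.subfield Γ R] R => k x) hg).symm⟩

section

variable {W : Type*} [CommGroup W]

/-- an automorphism as an endomorphism -/
def en (α : MulAut W) : AddMonoid.End (Additive W) := MonoidHom.toAdditive (α : W ≃* W).toMonoidHom

theorem en_apply (α : MulAut W) (w : W) : en α (Additive.ofMul w) = Additive.ofMul (α w) := rfl

theorem en_mul (α β : MulAut W) : en (α * β) = en α * en β := rfl

theorem en_one : en (1 : MulAut W) = 1 := rfl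

theorem en_inv_mul (α : MulAut W) : en α⁻¹ * en α = 1 := by rw [← en_mul, inv_mul_cancel, en_one]

theorem en_mul_inv (α : MulAut W) : en α * en α⁻¹ = 1 := by rw [← en_mul, mul_inv_cancel, en_one]

/-- conjugation as a ring automorphism -/
def cjE : MulAut W →* RingAut (AddMonoid.End (Additive W)) where
  toFun α :=
    { toFun := fun f => en α * f * en α⁻¹
      invFun := fun f => en α⁻¹ * f * en α
      left_inv := fun f => by
        change en α⁻¹ * (en α * f * en α⁻¹) * en α = f
        rw [← mul_assoc, ← mul_assoc, en_inv_mul, one_mul, mul_assoc, en_inv_mul, mul_one]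
      right_inv := fun f => by
        change en α * (en α⁻¹ * f * en α) * en α⁻¹ = f
        rw [← mul_assoc, ← mul_assoc, en_mul_inv, one_mul, mul_assoc, en_mul_inv, mul_one]
      map_mul' := fun f g => by
        calc en α * (f * g) * en α⁻¹ = en α * f * 1 * g * en α⁻¹ := by rw [mul_one]; simp only [mul_assoc]
          _ = en α * f * (en α⁻¹ * en α) * g * en α⁻¹ := by rw [en_inv_mul]
          _ = _ := by simp only [mul_assoc]
      map_add' := fun f g => by rw [mul_add, add_mul] }
  map_one' := RingEquiv.ext fun f => by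
    change en 1 * f * en (1 : MulAut W)⁻¹ = f
    rw [inv_one, en_one, one_mul, mul_one]
  map_mul' α β := RingEquiv.ext fun f => by
    change en (α * β) * f * en (α * β)⁻¹ = en α * (en β * f * en β⁻¹) * en α⁻¹
    rw [mul_inv_rev, en_mul, en_mul]
    simp only [mul_assoc]

theorem cjE_apply (α : MulAut W) (f : AddMonoid.End (Additive W)) : cjE α f = en α * f * en α⁻¹ := rfl

theorem cjE_en (α t : MulAut W) : cjE α (en t) = en (α * t * α⁻¹) := rfl

variable (T : Subgroup (MulAut W))

/-- the ring generated by `T` -/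
def RT : Subring (AddMonoid.End (Additive W)) := Subring.closure {f | ∃ t ∈ T, f = en t}

variable {T}

theorem en_mem {t : MulAut W} (ht : t ∈ T) : en t ∈ RT T := Subring.subset_closure ⟨t, ht, rfl⟩

theorem cjE_mem {α : MulAut W} (hα : ∀ t ∈ T, α * t * α⁻¹ ∈ T) {f : AddMonoid.End (Additive W)} (hf : f ∈ RT T) :
    cjE α f ∈ RT T := by
  have h1 : RT T ≤ (RT T).comap (cjE α : AddMonoid.End (Additive W) →+* AddMonoid.End (Additive W)) := by
    rw [RT, Subring.closure_le]
    rintro _ ⟨t, ht, rfl⟩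
    exact en_mem (hα t ht)
  exact h1 hf

theorem mul_comm_of_mem (hT : ∀ s ∈ T, ∀ t ∈ T, s * t = t * s) {f g : AddMonoid.End (Additive W)} (hf : f ∈ RT T)
    (hg : g ∈ RT T) : f * g = g * f := by
  have hc : ∀ x ∈ {f : AddMonoid.End (Additive W) | ∃ t ∈ T, f = en t}, ∀ y ∈ {f : AddMonoid.End (Additive W) | ∃ t ∈ T, f = en t},
      x * y = y * x := by
    rintro _ ⟨s, hs, rfl⟩ _ ⟨t, ht, rfl⟩
    rw [← en_mul, ← en_mul, hT s hs t ht]
  have hcl := Subring.isMulCommutative_closure hc
  exact congrArg Subtype.val (hcl.is_comm.comm (⟨f, hf⟩ : RT T) ⟨g, hg⟩)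

/-- the action of the normaliser of `T` on the ring -/
def nR (T : Subgroup (MulAut W)) : ↥(Subgroup.normalizer (T : Set (MulAut W))) →* RingAut (RT T) where
  toFun α :=
    { toFun := fun f => ⟨cjE α.1 f.1, cjE_mem (fun t ht => (Subgroup.mem_normalizer_iff.1 α.2 t).1 ht) f.2⟩
      invFun := fun f => ⟨cjE α.1⁻¹ f.1, cjE_mem (fun t ht => (Subgroup.mem_normalizer_iff.1 (inv_mem α.2) t).1 ht) f.2⟩
      left_inv := fun f => Subtype.ext (by
        change cjE α.1⁻¹ (cjE α.1 f.1) = f.1
        rw [← RingAut.mul_apply, ← map_mul, inv_mul_cancel, map_one]; rfl)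
      right_inv := fun f => Subtype.ext (by
        change cjE α.1 (cjE α.1⁻¹ f.1) = f.1
        rw [← RingAut.mul_apply, ← map_mul, mul_inv_cancel, map_one]; rfl)
      map_mul' := fun f g => Subtype.ext (map_mul (cjE α.1) f.1 g.1)
      map_add' := fun f g => Subtype.ext (map_add (cjE α.1) f.1 g.1) }
  map_one' := by
    ext f : 1
    apply Subtype.ext
    change cjE (1 : MulAut W) f.1 = f.1
    rw [map_one]; rfl
  map_mul' α β := by
    ext f : 1
    apply Subtype.ext
    change cjE (α.1 * β.1) f.1 = cjE α.1 (cjE β.1 f.1)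
    rw [map_mul]; rfl

theorem nR_apply (α : ↥(Subgroup.normalizer (T : Set (MulAut W)))) (f : RT T) :
    ((nR T α f : RT T) : AddMonoid.End (Additive W)) = cjE α.1 f.1 := rfl

/-- **Galois descent.** -/
theorem descent [Finite W] (hT : ∀ s ∈ T, ∀ t ∈ T, s * t = t * s)
    (hirr : ∀ X : Subgroup W, (∀ t ∈ T, ∀ x ∈ X, t x ∈ X) → X = ⊥ ∨ X = ⊤) {r : ℕ} [hr : Fact r.Prime]
    (A : Subgroup (MulAut W)) (hA : IsPGroup r A) (hAT : ∀ a ∈ A, a ∈ Subgroup.normalizer (T : Set (MulAut W)))
    (z : MulAut W) (hzT : z ∈ Subgroup.normalizer (T : Set (MulAut W))) {m : ℕ}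
    (hm : ¬ r ∣ m) (hzm : z ^ m = 1) {w0 : W} (hw0 : w0 ≠ 1) (hw0A : ∀ a ∈ A, a w0 = w0)
    (hz : ∀ w, (∀ a ∈ A, a w = w) → z w = w) : z = 1 := by
  classical
  let W' := Additive W
  let v0 : Additive W := Additive.ofMul w0
  have hv0 : v0 ≠ 0 := hw0
  have hcomm : ∀ f g : RT T, f * g = g * f := fun f g => Subtype.ext (mul_comm_of_mem hT f.2 g.2)
  let hCR : CommRing (RT T) := { (inferInstance : Ring (RT T)) with mul_comm := hcomm }
  -- the ring acts irreducibly
  have hker : ∀ f : RT T, f ≠ 0 → ∀ w : Additive W, f.1 w = 0 → w = 0 := by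
    intro f hf w hw
    let X : Subgroup W := AddSubgroup.toSubgroup' (f.1 : Additive W →+ Additive W).ker
    have hX : ∀ x : W, x ∈ X ↔ f.1 (Additive.ofMul x) = 0 := fun x => Iff.rfl
    rcases hirr X (fun t ht x hx => by
      rw [hX] at hx ⊢
      have h1 : f.1 * en t = en t * f.1 := mul_comm_of_mem hT f.2 (en_mem ht)
      have h2 : f.1 (en t (Additive.ofMul x)) = en t (f.1 (Additive.ofMul x)) :=
        congrArg (fun k : AddMonoid.End (Additive W) => k (Additive.ofMul x)) h1
      rw [← en_apply t x, h2, hx, map_zero]) with h | h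
    · have h1 : Additive.toMul w ∈ X := hw
      rw [h] at h1
      exact h1
    · exfalso
      apply hf
      apply Subtype.ext
      ext x
      have h1 : Additive.toMul x ∈ X := by rw [h]; trivial
      exact h1
  have hNT : Nontrivial (RT T) := ⟨⟨1, 0, fun h => hv0 (by
    have h1 : (1 : AddMonoid.End (Additive W)) v0 = (0 : AddMonoid.End (Additive W)) v0 :=
      congrArg (fun k : RT T => k.1 v0) h
    exact h1)⟩⟩
  have hNZ : NoZeroDivisors (RT T) := ⟨fun {f g} h => by
    by_contra hcon
    push Not at hcon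
    obtain ⟨hf, hg⟩ := hcon
    apply hg
    apply Subtype.ext
    ext x
    apply hker f hf
    exact congrArg (fun k : RT T => k.1 x) h⟩
  have hdom : IsDomain (RT T) := NoZeroDivisors.to_isDomain _
  have hfinE : Finite (AddMonoid.End (Additive W)) := DFunLike.finite (AddMonoid.End (Additive W))
  have hfin : Finite (RT T) := inferInstance
  have hFt : Fintype (RT T) := Fintype.ofFinite _
  let hF : Field (RT T) := Fintype.fieldOfDomain (RT T)
  -- every element is a multiple of `w0`
  have hcyc : ∀ w : Additive W, ∃ f : RT T, w = f.1 v0 := by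
    let X : Subgroup W := AddSubgroup.toSubgroup' (AddMonoidHom.mk' (fun f : RT T => f.1 v0) (fun f g => rfl)).range
    have hX : ∀ x : W, x ∈ X ↔ ∃ f : RT T, f.1 v0 = Additive.ofMul x := fun x => Iff.rfl
    rcases hirr X (fun t ht x hx => by
      rw [hX] at hx ⊢
      obtain ⟨f, hf⟩ := hx
      refine ⟨⟨en t, en_mem ht⟩ * f, ?_⟩
      change en t (f.1 v0) = _
      rw [hf]; rfl) with h | h
    · exfalso
      have h1 : w0 ∈ X := ⟨1, rfl⟩
      rw [h] at h1
      exact hw0 h1
    · intro w
      have h1 : Additive.toMul w ∈ X := by rw [h]; trivial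
      obtain ⟨f, hf⟩ := h1
      exact ⟨f, hf.symm⟩
  -- Galois
  let Φ : Subgroup (RingAut (RT T)) := (A.subgroupOf (Subgroup.normalizer (T : Set (MulAut W)))).map (nR T)
  have hEfin : Finite (RingAut (RT T)) := DFunLike.finite (RingAut (RT T))
  let zN : ↥(Subgroup.normalizer (T : Set (MulAut W))) := ⟨z, hzT⟩
  have hinv : ∀ {a : MulAut W}, a w0 = w0 → a⁻¹ w0 = w0 := by
    intro a ha
    have := congrArg (fun x => a⁻¹ x) ha
    simpa using this.symm
  have hcj : ∀ (a : MulAut W), a w0 = w0 → ∀ f : AddMonoid.End (Additive W),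
      (cjE a f) v0 = en a (f v0) := by
    intro a ha f
    change en a (f (Additive.ofMul (a⁻¹ w0))) = _
    rw [hinv ha]
  have hzfix : z w0 = w0 := hz w0 hw0A
  obtain ⟨g, hg⟩ := exists_smul_eq (Γ := Φ) (nR T zN) (by
    intro f hf
    have hfa : ∀ a ∈ A, a (Additive.toMul (f.1 v0)) = Additive.toMul (f.1 v0) := by
      intro a ha
      have h1 : nR T ⟨a, hAT a ha⟩ f = f := hf ⟨_, ⟨⟨a, hAT a ha⟩, ha, rfl⟩⟩
      have h2 : cjE a f.1 = f.1 := congrArg Subtype.val h1
      have h3 : (cjE a f.1) v0 = f.1 v0 := by rw [h2]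
      rw [hcj a (hw0A a ha)] at h3
      exact h3
    have h1 := hz _ hfa
    -- `z f z⁻¹` and `f` agree on `w0`
    have h2 : (nR T zN f - f).1 v0 = 0 := by
      change (cjE z f.1) v0 - f.1 v0 = 0
      rw [hcj z hzfix, sub_eq_zero]
      exact h1
    by_contra hne
    exact hv0 (hker (nR T zN f - f) (fun h => hne (sub_eq_zero.1 h)) v0 h2))
  have hgz : nR T zN = g.1 := by
    ext f : 1
    exact hg f
  -- orders
  have hΦ : IsPGroup r Φ := by
    have h1 : IsPGroup r (A.subgroupOf (Subgroup.normalizer (T : Set (MulAut W)))) := hA.comap_subtype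
    exact h1.map _
  obtain ⟨k, hk⟩ := hΦ g
  have hk' : g.1 ^ r ^ k = 1 := congrArg Subtype.val hk
  have hzm' : (nR T zN) ^ m = 1 := by
    rw [← map_pow, show zN ^ m = 1 from Subtype.ext hzm, map_one]
  rw [hgz] at hzm'
  have hcop : Nat.Coprime m (r ^ k) := Nat.Coprime.pow_right _ ((Nat.Prime.coprime_iff_not_dvd hr.out).2 hm).symm
  have hg1 : g.1 = 1 := by
    rw [← orderOf_eq_one_iff]
    exact Nat.eq_one_of_dvd_coprimes hcop (orderOf_dvd_of_pow_eq_one hzm') (orderOf_dvd_of_pow_eq_one hk')
  rw [hg1] at hgz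
  -- `z` commutes with the ring
  ext w
  obtain ⟨f, hf⟩ := hcyc (Additive.ofMul w)
  have h1 : (cjE z f.1) v0 = f.1 v0 := by
    have h2 : (nR T zN f : RT T) = f := by rw [hgz]; rfl
    exact congrArg (fun k : RT T => k.1 v0) h2
  rw [hcj z hzfix, ← hf] at h1
  exact h1

end

end Cfsg.Agent.H255.Galois
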