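import Mathlib
import Cfsg.Prelude.Def_IsolatedElements
import Cfsg.Prelude.Def_Transfer
import Cfsg.Prelude.Def_TwoFusion
import Cfsg.Agent.S0071
import Cfsg.Agent.OddOrderLocal.CyclicSub

/-!
# Isolated elements of `p`-power order

* `comm_of_mem`: an isolated element commutes with every `p`-group containing it;
* `normalizer_le`: normalizers of `p`-subgroups containing it centralize it;
* `conj_pow_eq`: a conjugate of a power of the isolated element `x` which commutes with `x` is that power;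
* `quotient`: images in quotients are isolated;
* `exists_compl_of_cyclic`: cyclic Sylow subgroups and a nontrivial isolated `p`-element give a normal `p`-complement.
-/

set_option autoImplicit false

namespace Cfsg.Agent.H255.Isolated

open Cfsg

variable {G : Type*} [Group G]

/-- An isolated element is central in every finite `p`-subgroup containing it. -/
theorem comm_of_mem [Finite G] {p : ℕ} [Fact p.Prime] {x : G} (hiso : IsIsolated x) {P : Subgroup G}
    (hP : IsPGroup p P) (hx : x ∈ P) {y : G} (hy : y ∈ P) : x * y = y * x := by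
  have hnil : Group.IsNilpotent P := hP.isNilpotent
  let x' : P := ⟨x, hx⟩
  let C : Subgroup P := Subgroup.centralizer {x'}
  have hC : C = ⊤ := by
    by_contra hne
    have hlt : C < ⊤ := lt_top_iff_ne_top.mpr hne
    have h1 := Group.normalizerCondition_of_isNilpotent (G := P) C hlt
    obtain ⟨g, hg, hgC⟩ := SetLike.exists_of_lt h1
    have hxC : x' ∈ C := Subgroup.mem_centralizer_singleton_iff.mpr rfl
    have h2 : g * x' * g⁻¹ ∈ C := (Subgroup.mem_normalizer_iff.mp hg x').mp hxC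
    have h3 := Subgroup.mem_centralizer_singleton_iff.mp h2
    have h4 : Commute x ((g : G) * x * (g : G)⁻¹) := by
      have := congrArg Subtype.val h3
      simpa [Commute, SemiconjBy] using this.symm
    have h5 := hiso g h4
    apply hgC
    apply Subgroup.mem_centralizer_singleton_iff.mpr
    apply Subtype.ext
    have h6 : (g : G) * x = x * g := by
      calc (g : G) * x = ((g : G) * x * (g : G)⁻¹) * g := by group
        _ = x * g := by rw [h5]
    simpa using h6
  have h1 : (⟨y, hy⟩ : P) ∈ C := by rw [hC]; trivial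
  have h2 := Subgroup.mem_centralizer_singleton_iff.mp h1
  have := congrArg Subtype.val h2
  simpa using this.symm

/-- Normalizers of `p`-subgroups containing the isolated element centralize it. -/
theorem normalizer_le [Finite G] {p : ℕ} [Fact p.Prime] {x : G} (hiso : IsIsolated x) {P : Subgroup G}
    (hP : IsPGroup p P) (hx : x ∈ P) : Subgroup.normalizer (P : Set G) ≤ Subgroup.centralizer ({x} : Set G) := by
  intro g hg
  rw [Subgroup.mem_centralizer_singleton_iff]
  have h1 : g * x * g⁻¹ ∈ P := (Subgroup.mem_normalizer_iff.mp hg x).mp hx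
  have h2 := hiso g (comm_of_mem hiso hP hx h1)
  calc g * x = (g * x * g⁻¹) * g := by group
    _ = x * g := by rw [h2]

theorem isPGroup_zpowers {p : ℕ} [Fact p.Prime] {x : G} (hx : ∃ k : ℕ, orderOf x = p ^ k) :
    IsPGroup p (Subgroup.zpowers x) := by
  obtain ⟨k, hk⟩ := hx
  exact IsPGroup.of_card (n := k) (by rw [Nat.card_zpowers, hk])

theorem orderOf_conj' (g x : G) : orderOf (g * x * g⁻¹) = orderOf x := by
  have := orderOf_injective (MulAut.conj g).toMonoidHom (MulAut.conj g).injective x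
  simpa using this

/-- Sylow's theorem for two `p`-elements of a subgroup. -/
theorem exists_conj_mem [Finite G] {p : ℕ} [Fact p.Prime] (H : Subgroup G) {x y : G} (hx : ∃ k : ℕ, orderOf x = p ^ k)
    (hy : ∃ k : ℕ, orderOf y = p ^ k) (hxH : x ∈ H) (hyH : y ∈ H) :
    ∃ (P : Subgroup G) (c : G), IsPGroup p P ∧ P ≤ H ∧ c ∈ H ∧ x ∈ P ∧ c * y * c⁻¹ ∈ P := by
  obtain ⟨Q, hQ⟩ := ((isPGroup_zpowers hx).comap_subtype (K := H)).exists_le_sylow
  obtain ⟨R, hR⟩ := ((isPGroup_zpowers hy).comap_subtype (K := H)).exists_le_sylow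
  obtain ⟨c, hc⟩ := MulAction.exists_smul_eq H R Q
  refine ⟨(Q : Subgroup H).map H.subtype, c, Q.2.map _, Subgroup.map_subtype_le _, c.2, ?_, ?_⟩
  · exact ⟨⟨x, hxH⟩, hQ (Subgroup.mem_subgroupOf.mpr (Subgroup.mem_zpowers x)), rfl⟩
  · have h1 : (⟨y, hyH⟩ : H) ∈ R := hR (Subgroup.mem_subgroupOf.mpr (Subgroup.mem_zpowers y))
    have h2 : c * ⟨y, hyH⟩ * c⁻¹ ∈ (Q : Subgroup H) := by
      rw [← hc]
      have := Subgroup.smul_mem_pointwise_smul (⟨y, hyH⟩ : H) (MulAut.conj c) (R : Subgroup H) h1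
      rw [Sylow.coe_subgroup_smul]
      simpa using this
    exact ⟨_, h2, rfl⟩

/-- A conjugate of a power of the isolated `p`-element `x` that commutes with `x` is equal to that power. -/
theorem conj_zpow_eq [Finite G] {p : ℕ} [Fact p.Prime] {x : G} (hx : ∃ k : ℕ, orderOf x = p ^ k) (hiso : IsIsolated x)
    (k : ℤ) (g : G) (h : Commute x (g * x ^ k * g⁻¹)) : g * x ^ k * g⁻¹ = x ^ k := by
  set z := g * x ^ k * g⁻¹ with hz
  obtain ⟨P, c, hP, -, hc, hxP, hcP⟩ := exists_conj_mem (p := p) (Subgroup.centralizer ({z} : Set G)) (x := x)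
    (y := g * x * g⁻¹) hx (by simpa [orderOf_conj'] using hx)
    (by rw [Subgroup.mem_centralizer_singleton_iff]; exact h)
    (by
      rw [Subgroup.mem_centralizer_singleton_iff, hz]
      have : x * x ^ k = x ^ k * x := (Commute.refl x).zpow_right k
      calc g * x * g⁻¹ * (g * x ^ k * g⁻¹) = g * (x * x ^ k) * g⁻¹ := by group
        _ = g * (x ^ k * x) * g⁻¹ := by rw [this]
        _ = g * x ^ k * g⁻¹ * (g * x * g⁻¹) := by group)
  rw [Subgroup.mem_centralizer_singleton_iff] at hc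
  have h1 : c * (g * x * g⁻¹) * c⁻¹ = (c * g) * x * (c * g)⁻¹ := by group
  rw [h1] at hcP
  have h2 := hiso (c * g) (comm_of_mem hiso hP hxP hcP)
  have h3 : c * z * c⁻¹ = x ^ k := by
    have : c * z * c⁻¹ = ((c * g) * x * (c * g)⁻¹) ^ k := by
      rw [conj_zpow, hz]; group
    rw [this, h2]
  rw [← h3, hc]; group

/-- Images of isolated `p`-elements in quotients are isolated. -/
theorem quotient [Finite G] {p : ℕ} [Fact p.Prime] {x : G} (hx : ∃ k : ℕ, orderOf x = p ^ k) (hiso : IsIsolated x)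
    (N : Subgroup G) [hN : N.Normal] : IsIsolated (QuotientGroup.mk x : G ⧸ N) := by
  intro g'
  obtain ⟨g, rfl⟩ := QuotientGroup.mk_surjective g'
  intro h
  let π := QuotientGroup.mk' N
  have hπ : ∀ a : G, (QuotientGroup.mk a : G ⧸ N) = π a := fun a => rfl
  rw [hπ, hπ] at h ⊢
  let A : Subgroup (G ⧸ N) := Subgroup.closure {π x, π g * π x * (π g)⁻¹}
  have hAcomm : ∀ a ∈ A, ∀ b ∈ A, a * b = b * a := by
    have hS : ∀ a ∈ ({π x, π g * π x * (π g)⁻¹} : Set (G ⧸ N)), ∀ b ∈ ({π x, π g * π x * (π g)⁻¹} : Set (G ⧸ N)),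
        a * b = b * a := by
      intro a ha b hb
      simp only [Set.mem_insert_iff, Set.mem_singleton_iff] at ha hb
      rcases ha with rfl | rfl <;> rcases hb with rfl | rfl
      · rfl
      · exact h
      · exact h.symm
      · rfl
    have h1 := Subgroup.isMulCommutative_closure (k := ({π x, π g * π x * (π g)⁻¹} : Set (G ⧸ N))) hS
    intro a ha b hb
    have := h1.is_comm.comm (⟨a, ha⟩ : A) ⟨b, hb⟩
    exact congrArg Subtype.val this
  have hxA : x ∈ A.comap π := Subgroup.subset_closure (by simp)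
  have hyA : g * x * g⁻¹ ∈ A.comap π := by
    rw [Subgroup.mem_comap]
    apply Subgroup.subset_closure
    simp
  obtain ⟨P, c, hP, -, hc, hxP, hcP⟩ := exists_conj_mem (p := p) (A.comap π) (x := x)
    (y := g * x * g⁻¹) hx (by simpa [orderOf_conj'] using hx) hxA hyA
  have h1 : c * (g * x * g⁻¹) * c⁻¹ = (c * g) * x * (c * g)⁻¹ := by group
  have hcP' := hcP
  rw [h1] at hcP'
  have h2 := hiso (c * g) (comm_of_mem hiso hP hxP hcP')
  rw [← h1] at h2
  have h3 : π c * (π g * π x * (π g)⁻¹) * (π c)⁻¹ = π x := by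
    have := congrArg π h2
    simpa using this
  have h4 : π c * (π g * π x * (π g)⁻¹) = (π g * π x * (π g)⁻¹) * π c :=
    hAcomm _ hc _ (Subgroup.subset_closure (by simp))
  rw [h4, mul_inv_cancel_right] at h3
  exact h3

/-- The arithmetic of an automorphism of order prime to `p` of a cyclic `p`-group. -/
theorem dvd_sub_one {p : ℕ} [Fact p.Prime] {n m : ℕ} {k : ℤ} (hm : Nat.Coprime m p) (h1 : ((p : ℤ) ^ n) ∣ k ^ m - 1)
    (h2 : (p : ℤ) ∣ k - 1) : ((p : ℤ) ^ n) ∣ k - 1 := by
  have h3 : (∑ i ∈ Finset.range m, k ^ i) * (k - 1) = k ^ m - 1 := geom_sum_mul k m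
  rw [← h3] at h1
  have h4 : (p : ℤ) ∣ (∑ i ∈ Finset.range m, k ^ i) - m := by
    have : (∑ i ∈ Finset.range m, k ^ i) - (m : ℤ) = ∑ i ∈ Finset.range m, (k ^ i - 1) := by
      simp
    rw [this]
    apply Finset.dvd_sum
    intro i _
    exact h2.trans (sub_one_dvd_pow_sub_one k i)
  have h5 : IsCoprime ((p : ℤ) ^ n) (∑ i ∈ Finset.range m, k ^ i) := by
    apply IsCoprime.pow_left
    have hpm : IsCoprime (p : ℤ) (m : ℤ) := by
      rw [Nat.isCoprime_iff_coprime]
      exact hm.symm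
    obtain ⟨t, ht⟩ := h4
    have h6 : (∑ i ∈ Finset.range m, k ^ i) = m + p * t := by linarith
    rw [h6]
    exact (IsCoprime.add_mul_left_right_iff).mpr hpm
  exact h5.dvd_of_dvd_mul_left h1

/-- If some element `x ≠ 1` of the cyclic `p`-group `Q` is centralised by the `p'`-element `g` normalising `Q`, then `g`
centralises `Q`. -/
theorem cyclic_centralize [Finite G] {p : ℕ} [hp : Fact p.Prime] {Q : Subgroup G} (hQ : IsPGroup p Q) (hc : IsCyclic Q)
    {g : G} (hg : g ∈ Subgroup.normalizer (Q : Set G)) (hgp : Nat.Coprime (orderOf g) p) {z : G} (hz : z ∈ Q)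
    (hz1 : z ≠ 1) (hgz : g * z * g⁻¹ = z) : g ∈ Subgroup.centralizer (Q : Set G) := by
  obtain ⟨⟨u, huQ⟩, hu⟩ := hc
  have hu' : ∀ v ∈ Q, ∃ k : ℤ, u ^ k = v := by
    intro v hv
    obtain ⟨k, hk⟩ := hu ⟨v, hv⟩
    exact ⟨k, by simpa using congrArg Subtype.val hk⟩
  obtain ⟨n, hn⟩ := (IsPGroup.iff_orderOf.mp hQ) ⟨u, huQ⟩
  rw [Subgroup.orderOf_mk] at hn
  obtain ⟨k, hk⟩ := hu' _ ((Subgroup.mem_normalizer_iff.mp hg u).mp huQ)
  obtain ⟨j, hj⟩ := hu' z hz
  -- powers of `g`
  have hpow : ∀ m : ℕ, g ^ m * u * (g ^ m)⁻¹ = u ^ (k ^ m) := by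
    intro m
    induction m with
    | zero => simp
    | succ m ih =>
      calc g ^ (m + 1) * u * (g ^ (m + 1))⁻¹ = g * (g ^ m * u * (g ^ m)⁻¹) * g⁻¹ := by
            rw [pow_succ']; group
        _ = g * u ^ (k ^ m) * g⁻¹ := by rw [ih]
        _ = (g * u * g⁻¹) ^ (k ^ m) := by rw [conj_zpow]
        _ = u ^ (k ^ (m + 1)) := by rw [← hk, ← zpow_mul, pow_succ']
  have h1 : ((p : ℤ) ^ n) ∣ k ^ (orderOf g) - 1 := by
    have h := hpow (orderOf g)
    rw [pow_orderOf_eq_one, one_mul, inv_one, mul_one] at h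
    have h' : u ^ (k ^ (orderOf g) - 1) = 1 := by
      rw [zpow_sub, ← h, zpow_one, mul_inv_cancel]
    have := orderOf_dvd_iff_zpow_eq_one.mpr h'
    rw [hn] at this
    exact_mod_cast this
  have h2 : (p : ℤ) ∣ k - 1 := by
    have h3 : u ^ ((k - 1) * j) = 1 := by
      have h4 : g * z * g⁻¹ = u ^ (k * j) := by
        rw [← hj, ← conj_zpow, ← hk, ← zpow_mul]
      rw [sub_mul, zpow_sub, ← h4, hgz, ← hj, one_mul, mul_inv_cancel]
    have h4 : ((p : ℤ) ^ n) ∣ (k - 1) * j := by
      have := orderOf_dvd_iff_zpow_eq_one.mpr h3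
      rw [hn] at this
      exact_mod_cast this
    by_contra h5
    apply hz1
    rw [← hj]
    have h6 : IsCoprime ((p : ℤ) ^ n) (k - 1) := by
      apply IsCoprime.pow_left
      exact (Nat.prime_iff_prime_int.mp hp.out).coprime_iff_not_dvd.mpr h5
    have h7 : ((p : ℤ) ^ n) ∣ j := h6.dvd_of_dvd_mul_left h4
    rw [← orderOf_dvd_iff_zpow_eq_one, hn]
    exact_mod_cast h7
  have h8 := dvd_sub_one hgp h1 h2
  have h9 : g * u * g⁻¹ = u := by
    rw [← hk]
    have : u ^ (k - 1) = 1 := by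
      rw [← orderOf_dvd_iff_zpow_eq_one, hn]
      exact_mod_cast h8
    calc u ^ k = u ^ (k - 1) * u := by rw [zpow_sub_one]; group
      _ = u := by rw [this, one_mul]
  rw [Subgroup.mem_centralizer_iff]
  intro v hv
  obtain ⟨i, rfl⟩ := hu' v hv
  have h10 : g * u ^ i * g⁻¹ = u ^ i := by rw [← conj_zpow, h9]
  calc u ^ i * g = (g * u ^ i * g⁻¹) * g := by rw [h10]
    _ = g * u ^ i := by group

/-- Cyclic Sylow `p`-subgroups and a nontrivial isolated `p`-element: there is a normal `p`-complement. -/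
theorem hasNormalPComplement_of_cyclic [Finite G] {p : ℕ} [hp : Fact p.Prime] {x : G} (hx : ∃ k : ℕ, orderOf x = p ^ k)
    (hiso : IsIsolated x) (hx1 : x ≠ 1) (hcyc : ∀ P : Sylow p G, IsCyclic ↥(P : Subgroup G)) :
    HasNormalPComplement p G := by
  obtain ⟨P, hP⟩ := (isPGroup_zpowers hx).exists_le_sylow
  have hxP : x ∈ (P : Subgroup G) := hP (Subgroup.mem_zpowers x)
  refine ⟨P, ?_⟩
  rw [Cfsg.Agent.S0071.result]
  intro Q hQP g hg hgp
  have hPc := hcyc P
  have hQc : IsCyclic Q := by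
    have := isCyclic_of_injective (Subgroup.inclusion hQP) (Subgroup.inclusion_injective hQP)
    exact this
  by_cases hQ1 : Q = ⊥
  · subst hQ1
    rw [Subgroup.mem_centralizer_iff]
    intro h hh
    rw [SetLike.mem_coe, Subgroup.mem_bot] at hh
    subst hh
    simp
  -- subgroups of order `p`
  have hex : ∀ R : Subgroup G, R ≤ (P : Subgroup G) → R ≠ ⊥ → ∃ z ∈ R, orderOf z = p := by
    intro R hRP hR1
    have hRp : IsPGroup p R := P.2.to_le hRP
    have hd : p ∣ Nat.card R := by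
      obtain ⟨n, hn⟩ := hRp.exists_card_eq
      rcases Nat.eq_zero_or_pos n with h0 | h0
      · rw [h0, pow_zero] at hn
        exact absurd (Subgroup.eq_bot_of_card_eq _ hn) hR1
      · rw [hn]; exact dvd_pow_self p h0.ne'
    obtain ⟨z, hz⟩ := exists_prime_orderOf_dvd_card' p hd
    exact ⟨z, z.2, by rw [Subgroup.orderOf_coe]; exact hz⟩
  obtain ⟨a, ha, hao⟩ := hex (Subgroup.zpowers x) hP (by rwa [Ne, Subgroup.zpowers_eq_bot])
  obtain ⟨b, hb, hbo⟩ := hex Q hQP hQ1
  have hab : Subgroup.zpowers a = Subgroup.zpowers b :=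
    Cfsg.Agent.OddOrderLocal.CyclicSub.eq_of_card_eq_of_le_cyclic hPc
      (Subgroup.zpowers_le.mpr (hP ha)) (Subgroup.zpowers_le.mpr (hQP hb))
      (by rw [Nat.card_zpowers, Nat.card_zpowers, hao, hbo])
  have hbx : b ∈ Subgroup.zpowers x := by
    have : b ∈ Subgroup.zpowers a := by rw [hab]; exact Subgroup.mem_zpowers b
    exact (Subgroup.zpowers_le.mpr ha) this
  obtain ⟨k, rfl⟩ := hbx
  have hgb : g * x ^ k * g⁻¹ = x ^ k := by
    apply conj_zpow_eq hx hiso
    apply comm_of_mem hiso P.2 hxP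
    exact hQP ((Subgroup.mem_normalizer_iff.mp hg _).mp hb)
  refine cyclic_centralize (P.2.to_le hQP) hQc hg hgp hb ?_ hgb
  intro h
  rw [h, orderOf_one] at hbo
  exact hp.out.one_lt.ne hbo

/-- A Frattini argument. -/
theorem frattini [Finite G] {p : ℕ} [Fact p.Prime] {x : G} (hx : ∃ k : ℕ, orderOf x = p ^ k)
    (hiso : IsIsolated x) (H N : Subgroup G) (hNH : N ≤ H) (hHN : H ≤ Subgroup.normalizer (N : Set G)) (hxN : x ∈ N) :
    N ⊔ (H ⊓ Subgroup.centralizer ({x} : Set G)) = H := by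
  refine le_antisymm (sup_le hNH inf_le_left) ?_
  intro h hh
  have h1 : h * x * h⁻¹ ∈ N := (Subgroup.mem_normalizer_iff.mp (hHN hh) x).mp hxN
  obtain ⟨P, c, hP, -, hc, hxP, hcP⟩ := exists_conj_mem (p := p) N (x := x)
    (y := h * x * h⁻¹) hx (by simpa [orderOf_conj'] using hx) hxN h1
  have h2 : c * (h * x * h⁻¹) * c⁻¹ = (c * h) * x * (c * h)⁻¹ := by group
  rw [h2] at hcP
  have h3 := hiso (c * h) (comm_of_mem hiso hP hxP hcP)
  have h4 : c * h ∈ H ⊓ Subgroup.centralizer ({x} : Set G) := by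
    refine Subgroup.mem_inf.mpr ⟨H.mul_mem (hNH hc) hh, ?_⟩
    rw [Subgroup.mem_centralizer_singleton_iff]
    calc (c * h) * x = ((c * h) * x * (c * h)⁻¹) * (c * h) := by group
      _ = x * (c * h) := by rw [h3]
  have h5 : h = c⁻¹ * (c * h) := by group
  rw [h5]
  exact Subgroup.mul_mem _ (Subgroup.mem_sup_left (N.inv_mem hc)) (Subgroup.mem_sup_right h4)

/-- In a group with a normal `p`-complement and abelian Sylow `p`-subgroups everything is central modulo the core. -/
theorem inZStar_of_compl [Finite G] {p : ℕ} [hp : Fact p.Prime] {x : G} (h : HasNormalPComplement p G)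
    (hcyc : ∀ P : Sylow p G, IsCyclic ↥(P : Subgroup G)) : InZStar p x := by
  obtain ⟨P, N, hN, hc⟩ := h
  have hcard : Nat.card (G ⧸ N) = Nat.card (P : Subgroup G) := by
    rw [← Subgroup.index, hc.symm.index_eq_card]
  have hPc := hcyc P
  have hN' : N ≤ pPrimeCore p G := by
    apply le_sSup
    refine ⟨hN, ?_⟩
    have h3 : ¬ p ∣ Nat.card N := by
      have h4 : (P : Subgroup G).index = Nat.card N := hc.index_eq_card
      rw [← h4]
      exact P.not_dvd_index
    exact (Nat.Prime.coprime_iff_not_dvd hp.out).mpr h3 |>.symm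
  intro g
  apply hN'
  rw [← QuotientGroup.eq_one_iff]
  have hcomm : ∀ a b : G ⧸ N, a * b = b * a := by
    have hsurj : Function.Surjective ((QuotientGroup.mk' N).comp (P : Subgroup G).subtype) := by
      intro a
      obtain ⟨a, rfl⟩ := QuotientGroup.mk'_surjective N a
      obtain ⟨⟨n, y⟩, hny⟩ := hc.2 a
      refine ⟨y, ?_⟩
      have : a = n * y := hny.symm
      rw [this, map_mul]
      have : QuotientGroup.mk' N (n : G) = 1 := (QuotientGroup.eq_one_iff _).mpr n.2
      rw [this, one_mul]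
      rfl
    intro a b
    obtain ⟨a, rfl⟩ := hsurj a
    obtain ⟨b, rfl⟩ := hsurj b
    rw [← map_mul, ← map_mul, (IsCyclic.isMulCommutative (α := (P : Subgroup G))).is_comm.comm a b]
  have : ((g * x * g⁻¹ * x⁻¹ : G) : G ⧸ N) = (g : G ⧸ N) * (x : G ⧸ N) * (g : G ⧸ N)⁻¹ * (x : G ⧸ N)⁻¹ := rfl
  rw [this, hcomm (g : G ⧸ N) (x : G ⧸ N)]
  group

end Cfsg.Agent.H255.Isolated
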