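import Cfsg.Agent.H255.LieZP
import Cfsg.Agent.PreUniq.Cases
import Cfsg.Agent.H254.CopAlt
import Cfsg.Agent.H254.CopSpor
import Cfsg.Agent.H254.CopMain
import Cfsg.Agent.S0205

/-!
# `ZP` for the known simple groups

`zp_known` : `ZP K` for every known finite non-abelian simple group `K`;
`zp_of_isKGroup` : the same for the simple K-groups.
-/

set_option autoImplicit false

namespace Cfsg.Agent.H255.Known

open Cfsg Cfsg.Agent.H255.Cop

universe u

theorem zp_of_copTriv {K : Type u} [Group K] [Finite K] [IsSimpleGroup K] (h : H254.CopTriv K) : ZP K := by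
  intro r hr hrK A hA
  have hfin : Finite (MulAut K) := inferInstance
  have h1 : A = ⊥ := by
    apply h
    obtain ⟨k, hk⟩ := hA.exists_card_eq
    rw [hk]
    exact Nat.Coprime.pow_left k ((Nat.Prime.coprime_iff_not_dvd hr.out).2 hrK)
  have h2 : ∀ x : K, x ∈ fix A := by
    intro x a ha
    rw [h1, Subgroup.mem_bot] at ha
    rw [ha]
    rfl
  refine ⟨?_, ?_⟩
  · obtain ⟨x, hx⟩ := exists_ne (1 : K)
    exact ⟨x, h2 x, hx⟩
  · intro z _ m _ _ hz
    ext x
    exact hz x (h2 x)

/-- **The known simple groups.** -/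
theorem zp_known (K : Type u) [Group K] [Finite K] [IsSimpleGroup K] (hna : ¬ IsMulCommutative K)
    (hk : IsKnownSimple' K) : ZP K := by
  rcases PreUniq.known_cases hk with h | h | ⟨p, hp, h⟩ | h | h
  · exfalso
    apply hna
    have h1 : IsCyclic K := by
      haveI : Fact (Nat.card K).Prime := ⟨h⟩
      exact isCyclic_of_prime_card rfl
    exact h1.commutative
  · obtain ⟨n, hn, ⟨e⟩⟩ := h
    by_cases h6 : n = 6
    · subst h6
      haveI : Fact (Nat.Prime 3) := ⟨Nat.prime_three⟩
      letI : Fintype (GaloisField 3 2) := Fintype.ofFinite _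
      have hF : Fintype.card (GaloisField 3 2) = 9 := by
        rw [← Nat.card_eq_fintype_card, GaloisField.card 3 2 (by norm_num)]; norm_num
      obtain ⟨e'⟩ := S0254.result (F := GaloisField 3 2) hF
      refine LieZP.zp_of_lie Nat.prime_three (K := K) (Or.inl ?_)
      exact ⟨GaloisField 3 2, inferInstance, inferInstance, inferInstance, 2, le_rfl, fun _ => by omega,
        ⟨e.trans e'.symm⟩⟩
    · exact zp_of_copTriv ((H254.Alt.copTriv hn h6).of_equiv e.symm)
  · exact LieZP.zp_of_lie hp h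
  · exact zp_of_copTriv (H254.CopSpor.tits_triv h)
  · exact zp_of_copTriv (H254.CopSpor.sporadic_triv h)

/-- The form for K-groups. -/
theorem zp_of_isKGroup (K : Type u) [Group K] [Finite K] [IsSimpleGroup K] (hna : ¬ IsMulCommutative K)
    (hk : IsKGroup K) : ZP K := by
  let e : (⊤ : Subgroup K) ⧸ (⊥ : Subgroup (⊤ : Subgroup K)) ≃* K :=
    QuotientGroup.quotientBot.trans Subgroup.topEquiv
  have h1 : IsSimpleGroup ((⊤ : Subgroup K) ⧸ (⊥ : Subgroup (⊤ : Subgroup K))) := e.isSimpleGroup
  have h2 : ¬ IsMulCommutative ((⊤ : Subgroup K) ⧸ (⊥ : Subgroup (⊤ : Subgroup K))) := by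
    intro hc
    apply hna
    refine ⟨⟨fun a b => e.symm.injective ?_⟩⟩
    rw [map_mul, map_mul]
    exact hc.is_comm.comm _ _
  exact (zp_known _ h2 (hk ⊤ ⊥ h1 h2)).of_equiv e

end Cfsg.Agent.H255.Known
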