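import Mathlib
import Cfsg.Agent.FixBN.GoodOne

/-!
# Coprime automorphisms of families of root groups on a panel

`PanelOK U` : for an `r`-group `A` of permutations normalising the family `U` (`r` prime to the order of the group
generated by the family): `A` has three fixed points, and an `r'`-permutation `z` normalising the family, commuting
with `A`, trivial on the fixed points of `A` (in the set and in the group) is trivial.
-/

set_option autoImplicit false

namespace Cfsg.Agent.H255.Panel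

open Cfsg.Agent.FixBN

variable {Om : Type*}

/-- the group generated by the root groups -/
abbrev gen (U : Om → Subgroup (Equiv.Perm Om)) : Subgroup (Equiv.Perm Om) := ⨆ y, U y

/-- the conclusion, for a given group `A` -/
def Concl (U : Om → Subgroup (Equiv.Perm Om)) (r : ℕ) (A : Subgroup (Equiv.Perm Om)) : Prop :=
  (∃ a b c : Om, a ≠ b ∧ a ≠ c ∧ b ≠ c ∧ ∀ g ∈ A, g a = a ∧ g b = b ∧ g c = c) ∧
    ∀ z ∈ famStab U, (∀ a ∈ A, z * a = a * z) → ∀ m : ℕ, ¬ r ∣ m → z ^ m = 1 →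
      (∀ y, (∀ a ∈ A, a y = y) → z y = y) →
      (∀ g ∈ gen U, (∀ a ∈ A, a * g = g * a) → z * g = g * z) → z = 1

/-- the property of the family of the root groups -/
def PanelOK (U : Om → Subgroup (Equiv.Perm Om)) : Prop :=
  ∀ (r : ℕ) [Fact r.Prime], ¬ r ∣ Nat.card ↥(gen U) →
    ∀ A : Subgroup (Equiv.Perm Om), IsPGroup r A → A ≤ famStab U → Concl U r A

/-- a family of root groups -/
structure RG (U : Om → Subgroup (Equiv.Perm Om)) : Prop where
  fix : ∀ y, ∀ g ∈ U y, g y = y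
  reg : ∀ y a b, a ≠ y → b ≠ y → ∃ g ∈ U y, g a = b
  free : ∀ y, ∀ g ∈ U y, ∀ a, a ≠ y → g a = a → g = 1
  stab : ∀ y, U y ≤ famStab U
  three : ∀ a b : Om, ∃ c, c ≠ a ∧ c ≠ b

/-- stable sets have fixed points -/
theorem exists_fixed {r : ℕ} [Fact r.Prime] {A : Subgroup (Equiv.Perm Om)}
    (hA : IsPGroup r A) (S : Set Om) (hst : ∀ a ∈ A, ∀ x ∈ S, a x ∈ S) (hc : ¬ r ∣ Nat.card S) :
    ∃ x ∈ S, ∀ a ∈ A, a x = x := by
  let act : MulAction A S :=
    { smul := fun a x => ⟨a.1 x.1, hst a.1 a.2 x.1 x.2⟩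
      one_smul := fun x => Subtype.ext rfl
      mul_smul := fun a b x => Subtype.ext rfl }
  obtain ⟨x, hx⟩ := hA.nonempty_fixed_point_of_prime_not_dvd_card (α := S) hc
  exact ⟨x.1, x.2, fun a ha => congrArg Subtype.val (hx ⟨a, ha⟩)⟩

namespace RG

variable {U : Om → Subgroup (Equiv.Perm Om)} (h : RG U)

include h

theorem gen_le : gen U ≤ famStab U := iSup_le h.stab

theorem trans (a b : Om) : ∃ g ∈ gen U, g a = b := by
  obtain ⟨y, h1, h2⟩ := h.three a b
  obtain ⟨g, hg, h3⟩ := h.reg y a b h1.symm h2.symm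
  exact ⟨g, le_iSup U y hg, h3⟩

theorem trans2 {a b c d : Om} (hab : a ≠ b) (hcd : c ≠ d) : ∃ g ∈ gen U, g a = c ∧ g b = d := by
  obtain ⟨g, hg, h1⟩ := h.trans a c
  have h2 : g b ≠ c := by rw [← h1]; exact fun h => hab (g.injective h).symm
  obtain ⟨k, hk, h3⟩ := h.reg c (g b) d h2 hcd.symm
  refine ⟨k * g, mul_mem (le_iSup U c hk) hg, ?_, ?_⟩
  · rw [Equiv.Perm.mul_apply, h1, h.fix c k hk]
  · rw [Equiv.Perm.mul_apply, h3]

theorem card_dvd [Finite Om] (a : Om) : Nat.card Om ∣ Nat.card ↥(gen U) := by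
  have h1 : (MulAction.orbit ↥(gen U) a) = Set.univ := by
    ext b
    obtain ⟨g, hg, hb⟩ := h.trans a b
    exact ⟨fun _ => trivial, fun _ => ⟨⟨g, hg⟩, hb⟩⟩
  have h2 : Nat.card Om = Nat.card (MulAction.orbit ↥(gen U) a) := by
    rw [h1, Nat.card_univ]
  rw [h2, Nat.card_congr (MulAction.orbitEquivQuotientStabilizer ↥(gen U) a)]
  exact Subgroup.index_dvd_card _

theorem card_ne [Finite Om] (y : Om) : Nat.card {x : Om // x ≠ y} = Nat.card (U y) := by
  obtain ⟨a, ha, -⟩ := h.three y y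
  symm
  refine Nat.card_congr (Equiv.ofBijective (fun u : U y => (⟨u.1 a, fun h1 => ha (u.1.injective
    (h1.trans (h.fix y u.1 u.2).symm))⟩ : {x : Om // x ≠ y})) ⟨?_, ?_⟩)
  · intro u v huv
    have h1 : u.1 a = v.1 a := congrArg Subtype.val huv
    have h2 : (v.1⁻¹ * u.1) a = a := by
      rw [Equiv.Perm.mul_apply, h1]; exact v.1.symm_apply_apply a
    have h3 := h.free y (v.1⁻¹ * u.1) (mul_mem (inv_mem v.2) u.2) a ha h2
    exact Subtype.ext (inv_mul_eq_one.1 h3).symm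
  · rintro ⟨b, hb⟩
    obtain ⟨g, hg, h1⟩ := h.reg y a b ha hb
    exact ⟨⟨g, hg⟩, Subtype.ext h1⟩

theorem exists_two [Finite Om] {r : ℕ} [Fact r.Prime] (hr : ¬ r ∣ Nat.card ↥(gen U))
    {A : Subgroup (Equiv.Perm Om)} (hA : IsPGroup r A) (p : Om) :
    ∃ y z : Om, y ≠ z ∧ ∀ a ∈ A, a y = y ∧ a z = z := by
  obtain ⟨y, -, hy⟩ := exists_fixed hA Set.univ (fun _ _ _ _ => trivial) (by
    rw [Nat.card_univ]
    exact fun h1 => hr (h1.trans (h.card_dvd p)))
  obtain ⟨z, hz, hz'⟩ := exists_fixed hA {x : Om | x ≠ y} (fun a ha x hx h1 => hx (a.injective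
    (h1.trans (hy a ha).symm))) (by
    have := h.card_ne y
    intro h1
    apply hr
    have h2 : Nat.card ({x : Om | x ≠ y} : Set Om) = Nat.card (U y) := this
    rw [h2] at h1
    exact h1.trans (Subgroup.card_dvd_of_le (le_iSup U y)))
  exact ⟨y, z, fun h => hz h.symm, fun a ha => ⟨hy a ha, hz' a ha⟩⟩

omit h in
theorem _root_.Cfsg.Agent.H255.Panel.Concl.of_conj {r : ℕ} {A : Subgroup (Equiv.Perm Om)} {g : Equiv.Perm Om}
    (hg : g ∈ gen U) (hgs : g ∈ famStab U) (hC : Concl U r (A.map (MulAut.conj g⁻¹).toMonoidHom)) : Concl U r A := by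
  have hmem : ∀ a ∈ A, g⁻¹ * a * g ∈ A.map (MulAut.conj g⁻¹).toMonoidHom := by
    intro a ha
    refine ⟨a, ha, ?_⟩
    change g⁻¹ * a * g⁻¹⁻¹ = _
    rw [inv_inv]
  have hmem' : ∀ b ∈ A.map (MulAut.conj g⁻¹).toMonoidHom, ∃ a ∈ A, b = g⁻¹ * a * g := by
    rintro _ ⟨a, ha, rfl⟩
    refine ⟨a, ha, ?_⟩
    change g⁻¹ * a * g⁻¹⁻¹ = _
    rw [inv_inv]
  have hfx : ∀ (a : Equiv.Perm Om) (x : Om), (g⁻¹ * a * g) x = x → a (g x) = g x := by
    intro a x hx
    have h1 : g ((g⁻¹ * a * g) x) = g x := by rw [hx]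
    have h2 : g ((g⁻¹ * a * g) x) = (g * (g⁻¹ * a * g)) x := rfl
    have h3 : g * (g⁻¹ * a * g) = a * g := by group
    rw [h2, h3] at h1
    exact h1
  have hfx' : ∀ (a : Equiv.Perm Om) (x : Om), a (g x) = g x → (g⁻¹ * a * g) x = x := by
    intro a x hx
    change g⁻¹ (a (g x)) = x
    rw [hx]
    exact g.symm_apply_apply x
  obtain ⟨⟨a, b, c, h1, h2, h3, h4⟩, h5⟩ := hC
  refine ⟨⟨g a, g b, g c, fun h => h1 (g.injective h), fun h => h2 (g.injective h), fun h => h3 (g.injective h), ?_⟩, ?_⟩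
  · intro k hk
    obtain ⟨h6, h7, h8⟩ := h4 _ (hmem k hk)
    exact ⟨hfx _ _ h6, hfx _ _ h7, hfx _ _ h8⟩
  · intro z hz hzA m hm hzm hzf hzg
    have h6 := h5 (g⁻¹ * z * g) (mul_mem (mul_mem (inv_mem hgs) hz) hgs) (by
      intro b hb
      obtain ⟨a, ha, rfl⟩ := hmem' b hb
      have e1 : g⁻¹ * z * g * (g⁻¹ * a * g) = g⁻¹ * (z * a) * g := by group
      have e2 : g⁻¹ * a * g * (g⁻¹ * z * g) = g⁻¹ * (a * z) * g := by group
      rw [e1, e2, hzA a ha]) m hm (by
      have e1 : (g⁻¹ * z * g) ^ m = g⁻¹ * z ^ m * g := by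
        have := conj_pow (i := m) (a := g⁻¹) (b := z)
        rw [inv_inv] at this
        exact this
      rw [e1, hzm]
      group) (by
      intro y hy
      apply hfx'
      apply hzf
      intro a ha
      exact hfx _ _ (hy _ (hmem a ha))) (by
      intro k hk hkA
      have h7 := hzg (g * k * g⁻¹) (mul_mem (mul_mem hg hk) (inv_mem hg)) (by
        intro a ha
        have h8 := hkA _ (hmem a ha)
        have e1 : a * (g * k * g⁻¹) = g * (g⁻¹ * a * g * k) * g⁻¹ := by group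
        have e2 : g * k * g⁻¹ * a = g * (k * (g⁻¹ * a * g)) * g⁻¹ := by group
        rw [e1, e2, h8])
      have e1 : g⁻¹ * z * g * k = g⁻¹ * (z * (g * k * g⁻¹)) * g := by group
      have e2 : k * (g⁻¹ * z * g) = g⁻¹ * (g * k * g⁻¹ * z) * g := by group
      rw [e1, e2, h7])
    have h7 : z = g * (g⁻¹ * z * g) * g⁻¹ := by group
    rw [h7, h6]
    group

/-- It suffices to treat groups fixing two given points. -/
theorem panelOK [Finite Om] {p q : Om} (hpq : p ≠ q)
    (main : ∀ (r : ℕ) [Fact r.Prime], ¬ r ∣ Nat.card ↥(gen U) → ∀ A : Subgroup (Equiv.Perm Om), IsPGroup r A →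
      A ≤ famStab U → (∀ a ∈ A, a p = p ∧ a q = q) → Concl U r A) : PanelOK U := by
  intro r hrf hr A hA hAU
  obtain ⟨y, z, hyz, h1⟩ := h.exists_two hr hA p
  obtain ⟨g, hg, h2, h3⟩ := h.trans2 hpq hyz
  have hgs := h.gen_le hg
  refine Concl.of_conj hg hgs (main r hr _ (hA.map _) ?_ ?_)
  · rintro _ ⟨a, ha, rfl⟩
    exact mul_mem (mul_mem (inv_mem hgs) (hAU ha)) (inv_mem (inv_mem hgs))
  · rintro _ ⟨a, ha, rfl⟩
    have e : ∀ x, (MulAut.conj g⁻¹).toMonoidHom a x = g⁻¹ (a (g x)) := by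
      intro x
      change (g⁻¹ * a * g⁻¹⁻¹) x = _
      rw [inv_inv]
      rfl
    rw [e, e, h2, h3, (h1 a ha).1, (h1 a ha).2]
    constructor
    · rw [← h2]; exact g.symm_apply_apply p
    · rw [← h3]; exact g.symm_apply_apply q

end RG

/-- Transport under a bijection of the points. -/
theorem PanelOK.map {Om' : Type*} (e : Om ≃ Om') {U : Om → Subgroup (Equiv.Perm Om)}
    {U' : Om' → Subgroup (Equiv.Perm Om')} (hU : ∀ y g, g ∈ U y ↔ e.permCongr g ∈ U' (e y)) (h : PanelOK U) :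
    PanelOK U' := by
  set f : Equiv.Perm Om ≃* Equiv.Perm Om' := e.permCongrHom with hf
  have hfa : ∀ g, f g = e.permCongr g := fun g => rfl
  have hfx : ∀ (g : Equiv.Perm Om) (x : Om), f g (e x) = e (g x) := fun g x => by
    show e (g (e.symm (e x))) = e (g x)
    rw [e.symm_apply_apply]
  have hst : ∀ c : Equiv.Perm Om, c ∈ famStab U ↔ f c ∈ famStab U' := by
    intro c
    constructor
    · intro hc y g
      obtain ⟨y, rfl⟩ := e.surjective y
      obtain ⟨g, rfl⟩ := f.surjective g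
      rw [hfx, ← map_mul, ← map_inv, ← map_mul, hfa, hfa, ← hU, ← hU]
      exact hc y g
    · intro hc y g
      have := hc (e y) (f g)
      rw [hfx, ← map_mul, ← map_inv, ← map_mul, hfa, hfa, ← hU, ← hU] at this
      exact this
  have hgen : ∀ g, g ∈ gen U ↔ f g ∈ gen U' := by
    have h1 : (gen U).map f.toMonoidHom = gen U' := by
      rw [gen, Subgroup.map_iSup]
      apply le_antisymm
      · refine iSup_le fun y => ?_
        rintro _ ⟨g, hg, rfl⟩
        exact le_iSup U' (e y) ((hU y g).1 hg)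
      · refine iSup_le fun y' => ?_
        obtain ⟨y, rfl⟩ := e.surjective y'
        refine le_trans ?_ (le_iSup (fun y => (U y).map f.toMonoidHom) y)
        intro g hg
        obtain ⟨g, rfl⟩ := f.surjective g
        exact ⟨g, (hU y g).2 hg, rfl⟩
    intro g
    rw [← h1]
    constructor
    · intro hg
      exact ⟨g, hg, rfl⟩
    · rintro ⟨k, hk, hkg⟩
      rwa [← f.injective hkg]
  have hcard : Nat.card ↥(gen U) = Nat.card ↥(gen U') := by
    refine Nat.card_congr ((f.toEquiv.subtypeEquiv fun g => hgen g))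
  intro r hrf hr A hA hAU
  let A' : Subgroup (Equiv.Perm Om) := A.comap f.toMonoidHom
  have hA' : IsPGroup r A' := hA.comap_of_injective _ f.injective
  obtain ⟨⟨a, b, c, h1, h2, h3, h4⟩, h5⟩ := h r (by rwa [hcard]) A' hA' (fun g hg => (hst g).2 (hAU hg))
  refine ⟨⟨e a, e b, e c, fun h => h1 (e.injective h), fun h => h2 (e.injective h), fun h => h3 (e.injective h), ?_⟩, ?_⟩
  · intro g hg
    obtain ⟨g, rfl⟩ := f.surjective g
    rw [hfx, hfx, hfx]
    obtain ⟨h6, h7, h8⟩ := h4 g hg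
    rw [h6, h7, h8]
    exact ⟨rfl, rfl, rfl⟩
  · intro z hz hzA m hm hzm hzf hzg
    obtain ⟨z, rfl⟩ := f.surjective z
    have h6 := h5 z ((hst z).2 hz) (fun a ha => f.injective (by rw [map_mul, map_mul]; exact hzA _ ha)) m hm
      (f.injective (by rw [map_pow, map_one]; exact hzm)) (fun y hy => by
        apply e.injective
        rw [← hfx]
        apply hzf
        intro a ha
        obtain ⟨a, rfl⟩ := f.surjective a
        rw [hfx, hy a ha]) (fun g hg hgA => f.injective (by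
        rw [map_mul, map_mul]
        apply hzg _ ((hgen g).1 hg)
        intro a ha
        obtain ⟨a, rfl⟩ := f.surjective a
        rw [← map_mul, ← map_mul, hgA a ha]))
    rw [h6, map_one]

end Cfsg.Agent.H255.Panel
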