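import Cfsg.Agent.H255.Bld
import Cfsg.Agent.H255.Panel
import Cfsg.Agent.FixBN.GoodFam
import Cfsg.Agent.FixOdd.Trans

/-!
# From panels to the building
-/

set_option autoImplicit false

namespace Cfsg.Agent.H255.PanelBld

open Cfsg.Agent.Tits.Core Cfsg.Agent.Tits.Core.Bldg Cfsg.Agent.Tits.OppRes Cfsg.Agent.H255.Cop Cfsg.Agent.H255.Bld
  Cfsg.Agent.H255.Panel
open Cfsg.Agent.FixBN (Sys famStab)

variable {I : Type*} {M : CoxeterMatrix I} {W : Type*} [Group W] {cs : CoxeterSystem M W} {C : Type*} {Δ : Bldg cs C}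
  {K : Type*} [Group K] [MulAction K C]

section

variable (Δ)

/-- the stabiliser of a panel -/
def stabP (K : Type*) [Group K] [MulAction K C] (i : I) (x : C) : Subgroup K where
  carrier := {k | ∀ z, k • z ∈ Δ.Pan i x ↔ z ∈ Δ.Pan i x}
  one_mem' := fun z => by rw [one_smul]
  mul_mem' := fun {a b} ha hb z => by rw [mul_smul, ha, hb]
  inv_mem' := fun {a} ha z => by rw [← ha (a⁻¹ • z), smul_inv_smul]

/-- the action of the stabiliser of a panel -/
def toPan (K : Type*) [Group K] [MulAction K C] (i : I) (x : C) : stabP Δ K i x →* Equiv.Perm (Δ.Pan i x) where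
  toFun k :=
    { toFun := fun z => ⟨(k : K) • (z : C), (k.2 z).2 z.2⟩
      invFun := fun z => ⟨(k : K)⁻¹ • (z : C), (((stabP Δ K i x).inv_mem k.2) z).2 z.2⟩
      left_inv := fun z => Subtype.ext (inv_smul_smul _ _)
      right_inv := fun z => Subtype.ext (smul_inv_smul _ _) }
  map_one' := by
    ext z
    exact one_smul K (z : C)
  map_mul' a b := by
    ext z
    exact mul_smul (a : K) (b : K) (z : C)

theorem toPan_apply {i : I} {x : C} (k : stabP Δ K i x) (z : Δ.Pan i x) :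
    ((toPan Δ K i x k z : Δ.Pan i x) : C) = (k : K) • (z : C) := rfl

end

theorem Pan_eq {i : I} {x y : C} (h : y ∈ Δ.Pan i x) : Δ.Pan i y = Δ.Pan i x := by
  ext z
  exact ⟨fun hz => Δ.mem_Pan_trans h hz, fun hz => Δ.mem_Pan_trans (Δ.mem_Pan_symm h) hz⟩

theorem δ_eq {i : I} {x : C} {a b : C} (ha : a ∈ Δ.Pan i x) (hb : b ∈ Δ.Pan i x) (hab : b ≠ a) :
    Δ.δ a b = cs.simple i := by
  rw [← Pan_eq ha] at hb
  rcases hb with h | h
  · exact absurd h hab
  · exact h

theorem mem_of_δ {i : I} {x a b : C} (ha : a ∈ Δ.Pan i x) (h : Δ.δ a b = cs.simple i) : b ∈ Δ.Pan i x := by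
  rw [← Pan_eq ha]
  exact Or.inr h

variable (hsa : Δ.StrongAct K)

include hsa in
theorem mem_stabP {i : I} {x : C} {k : K} (y : C) (hy : y ∈ Δ.Pan i x) (h : k • y ∈ Δ.Pan i x) :
    k ∈ stabP Δ K i x := by
  have key : ∀ (k : K) (y : C), y ∈ Δ.Pan i x → k • y ∈ Δ.Pan i x → ∀ z ∈ Δ.Pan i x, k • z ∈ Δ.Pan i x := by
    intro k y hy h z hz
    by_cases hzy : z = y
    · rw [hzy]; exact h
    · have h1 := δ_eq hy hz hzy
      rw [← hsa.iso k] at h1
      exact mem_of_δ h h1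
  intro z
  refine ⟨fun hz => ?_, key k y hy h z⟩
  have h1 := key k⁻¹ (k • y) h (by rw [inv_smul_smul]; exact hy) _ hz
  rwa [inv_smul_smul] at h1

variable {p : ℕ} (S : Sys Δ K p)

/-- conjugates of the root groups -/
theorem conj_U {x : C} {u k : K} (hu : u ∈ S.U x) : k * u * k⁻¹ ∈ S.U (k • x) := by
  refine S.max (k • x) ((S.U x).map (MulAut.conj k).toMonoidHom) ((S.isP x).map _) ?_ ⟨u, hu, rfl⟩
  rintro _ ⟨v, hv, rfl⟩
  change (k * v * k⁻¹) • k • x = k • x
  rw [smul_smul, inv_mul_cancel_right, mul_smul, S.fix x v hv]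

theorem toPan_mem_fam {i : I} {x : C} {y : Δ.Pan i x} {u : K} (hu : u ∈ S.U y) (hu' : u ∈ stabP Δ K i x) :
    toPan Δ K i x ⟨u, hu'⟩ ∈ S.fam i x y := ⟨u, hu, fun _ => rfl⟩

include hsa in
theorem exists_of_fam {i : I} {x : C} {y : Δ.Pan i x} {g : Equiv.Perm (Δ.Pan i x)} (hg : g ∈ S.fam i x y) :
    ∃ (u : K) (_ : u ∈ S.U y) (hu' : u ∈ stabP Δ K i x), toPan Δ K i x ⟨u, hu'⟩ = g := by
  obtain ⟨u, hu, h⟩ := hg
  have hu' : u ∈ stabP Δ K i x := mem_stabP hsa (y : C) y.2 (by rw [S.fix _ u hu]; exact y.2)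
  exact ⟨u, hu, hu', Equiv.ext fun z => Subtype.ext (h z).symm⟩

include hsa in
theorem toPan_mem_famStab {i : I} {x : C} (k : stabP Δ K i x) : toPan Δ K i x k ∈ famStab (S.fam i x) := by
  have key : ∀ (k : stabP Δ K i x) (y : Δ.Pan i x) g, g ∈ S.fam i x y →
      toPan Δ K i x k * g * (toPan Δ K i x k)⁻¹ ∈ S.fam i x (toPan Δ K i x k y) := by
    intro k y g hg
    obtain ⟨u, hu, hu', rfl⟩ := exists_of_fam hsa S hg
    rw [← map_inv, ← map_mul, ← map_mul]
    exact toPan_mem_fam S (y := toPan Δ K i x k y) (conj_U S hu) _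
  intro y g
  refine ⟨key k y g, fun h => ?_⟩
  have h1 := key k⁻¹ _ _ h
  rw [map_inv, inv_inv] at h1
  have h2 : (toPan Δ K i x k)⁻¹ * (toPan Δ K i x k * g * (toPan Δ K i x k)⁻¹) * toPan Δ K i x k = g := by group
  rw [h2] at h1
  have h3 : (toPan Δ K i x k)⁻¹ (toPan Δ K i x k y) = y := (toPan Δ K i x k).symm_apply_apply y
  rwa [h3] at h1

include hsa in
/-- the family of the root groups on a panel -/
theorem rg (hth : Δ.Thick) (htr : ∀ x y z, Δ.δ x y = Δ.δ x z → ∃ u ∈ S.U x, u • y = z) (i : I) (x : C) :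
    RG (S.fam i x) where
  fix y g hg := by
    obtain ⟨u, hu, h⟩ := hg
    exact Subtype.ext ((h y).trans (S.fix _ u hu))
  reg y a b ha hb := by
    obtain ⟨u, hu, h⟩ := htr y a b ((δ_eq y.2 a.2 fun h => ha (Subtype.ext h)).trans
      (δ_eq y.2 b.2 fun h => hb (Subtype.ext h)).symm)
    have hu' : u ∈ stabP Δ K i x := mem_stabP hsa (y : C) y.2 (by rw [S.fix _ u hu]; exact y.2)
    exact ⟨_, toPan_mem_fam S hu hu', Subtype.ext h⟩
  free y g hg a ha hga := by
    obtain ⟨u, hu, h⟩ := hg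
    have h1 := S.pan y a i (δ_eq y.2 a.2 fun h => ha (Subtype.ext h)) u hu (by rw [← h, hga])
    apply Equiv.ext
    intro z
    apply Subtype.ext
    rw [h]
    exact h1 z (by rw [Pan_eq y.2]; exact z.2)
  stab y g hg := by
    obtain ⟨u, hu, hu', rfl⟩ := exists_of_fam hsa S hg
    exact toPan_mem_famStab hsa S _
  three a b := by
    obtain ⟨y, z, hyz, h1, h2⟩ := hth a i
    have hne : ∀ y, Δ.δ (a : C) y = cs.simple i → y ≠ a := by
      rintro y h3 rfl
      rw [(Δ.eq_one _ _).2 rfl] at h3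
      have := cs.length_simple i
      rw [← h3, cs.length_one] at this
      exact absurd this (by norm_num)
    by_cases hyb : y = b
    · refine ⟨⟨z, mem_of_δ a.2 h2⟩, fun h => hne z h2 (congrArg Subtype.val h), fun h => ?_⟩
      have : z = b := congrArg Subtype.val h
      exact hyz (hyb.trans this.symm)
    · exact ⟨⟨y, mem_of_δ a.2 h1⟩, fun h => hne y h1 (congrArg Subtype.val h), fun h => hyb (congrArg Subtype.val h)⟩

include hsa in
theorem exists_of_gen {i : I} {x : C} {g : Equiv.Perm (Δ.Pan i x)} (hg : g ∈ gen (S.fam i x)) :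
    ∃ k : stabP Δ K i x, toPan Δ K i x k = g := by
  have h1 : gen (S.fam i x) ≤ (toPan Δ K i x).range := by
    refine iSup_le fun y g hg => ?_
    obtain ⟨u, hu, hu', rfl⟩ := exists_of_fam hsa S hg
    exact ⟨_, rfl⟩
  exact h1 hg

include hsa in
theorem card_gen_dvd [Finite K] (i : I) (x : C) : Nat.card ↥(gen (S.fam i x)) ∣ Nat.card K := by
  have h1 : gen (S.fam i x) ≤ (toPan Δ K i x).range := by
    refine iSup_le fun y g hg => ?_
    obtain ⟨u, hu, hu', rfl⟩ := exists_of_fam hsa S hg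
    exact ⟨_, rfl⟩
  refine (Subgroup.card_dvd_of_le h1).trans ((Subgroup.card_range_dvd _).trans (Subgroup.card_subgroup_dvd_card _))

/-- in characteristic two the stabiliser of two points has odd order -/
theorem odd_orderOf [Finite K] (hsa : Δ.StrongAct K) (S : Sys Δ K 2) (i : I) (x : C) (a b : Δ.Pan i x) (hab : a ≠ b)
    (g : Equiv.Perm (Δ.Pan i x)) (hg : g ∈ gen (S.fam i x)) (hga : g a = a) (hgb : g b = b) : Odd (orderOf g) := by
  obtain ⟨k, rfl⟩ := exists_of_gen hsa S hg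
  obtain ⟨j, m, hm, hkm⟩ := Nat.exists_eq_two_pow_mul_odd (orderOf_pos k).ne'
  set c := k ^ m with hc
  have hck : c ^ 2 ^ j = 1 := by rw [hc, ← pow_mul, mul_comm, ← hkm, pow_orderOf_eq_one]
  have hfix : ∀ y : Δ.Pan i x, toPan Δ K i x k y = y → (c : K) • (y : C) = y := by
    intro y hy
    have h1 : ∀ n : ℕ, (toPan Δ K i x (k ^ n)) y = y := by
      intro n
      induction n with
      | zero => rw [pow_zero, map_one]; rfl
      | succ n ih => rw [pow_succ, map_mul, Equiv.Perm.mul_apply, hy, ih]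
    exact congrArg Subtype.val (h1 m)
  have hcp : IsPGroup 2 (Subgroup.zpowers (c : K)) := by
    rintro ⟨_, n, rfl⟩
    refine ⟨j, Subtype.ext ?_⟩
    change ((c : K) ^ n) ^ 2 ^ j = 1
    have : (c : K) ^ 2 ^ j = 1 := congrArg Subtype.val hck
    rw [← zpow_natCast, ← zpow_mul, mul_comm, zpow_mul, zpow_natCast, this, one_zpow]
  have hcU : (c : K) ∈ S.U a := by
    refine S.max a (Subgroup.zpowers (c : K)) hcp ?_ (Subgroup.mem_zpowers _)
    rintro _ ⟨n, rfl⟩
    have h1 : (c : K) ∈ MulAction.stabilizer K (a : C) := hfix a hga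
    exact (MulAction.stabilizer K (a : C)).zpow_mem h1 n
  have h1 := S.pan a b i (δ_eq a.2 b.2 fun h => hab (Subtype.ext h.symm)) c hcU (hfix b hgb)
  have h2 : (toPan Δ K i x k) ^ m = 1 := by
    rw [← map_pow]
    apply Equiv.ext
    intro z
    apply Subtype.ext
    exact h1 z (by rw [Pan_eq a.2]; exact z.2)
  exact hm.of_dvd_nat (orderOf_dvd_of_pow_eq_one h2)

/-! ### The automorphisms -/

variable (T : AutAct Δ K)

section

variable [Cox cs] (hth : Δ.Thick)

/-- the automorphisms preserving a panel -/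
def stabA (hth : Δ.Thick) (hsa : Δ.StrongAct K) (i : I) (x : C) : Subgroup (MulAut K) where
  carrier := {a | ∀ z, T.θ a z ∈ Δ.Pan i x ↔ z ∈ Δ.Pan i x}
  one_mem' := fun z => by rw [T.θ_one hth hsa]
  mul_mem' := fun {a b} ha hb z => by rw [T.θ_mul hth hsa, ha, hb]
  inv_mem' := fun {a} ha z => by
    rw [← ha (T.θ a⁻¹ z), ← T.θ_mul hth hsa, mul_inv_cancel, T.θ_one hth hsa]

/-- the action on the panel -/
def toPanA (i : I) (x : C) : stabA T hth hsa i x →* Equiv.Perm (Δ.Pan i x) where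
  toFun a :=
    { toFun := fun z => ⟨T.θ a.1 z.1, (a.2 z).2 z.2⟩
      invFun := fun z => ⟨T.θ a.1⁻¹ z.1, (((stabA T hth hsa i x).inv_mem a.2) z).2 z.2⟩
      left_inv := fun z => Subtype.ext (by
        change T.θ a.1⁻¹ (T.θ a.1 z.1) = z.1
        rw [← T.θ_mul hth hsa, inv_mul_cancel, T.θ_one hth hsa])
      right_inv := fun z => Subtype.ext (by
        change T.θ a.1 (T.θ a.1⁻¹ z.1) = z.1
        rw [← T.θ_mul hth hsa, mul_inv_cancel, T.θ_one hth hsa]) }
  map_one' := Equiv.ext fun z => Subtype.ext (T.θ_one hth hsa z.1)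
  map_mul' a b := Equiv.ext fun z => Subtype.ext (T.θ_mul hth hsa a.1 b.1 z.1)

theorem toPanA_apply {i : I} {x : C} (a : stabA T hth hsa i x) (z : Δ.Pan i x) :
    ((toPanA hsa T hth i x a z : Δ.Pan i x) : C) = T.θ a.1 z.1 := rfl

theorem mem_stabA {i : I} {x : C} {a : MulAut K} (ha : ∀ x y, Δ.δ (T.θ a x) (T.θ a y) = Δ.δ x y)
    (hx : T.θ a x = x) : a ∈ stabA T hth hsa i x := by
  intro z
  have h1 := ha x z
  rw [hx] at h1
  constructor
  · rintro (h | h)
    · left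
      rw [← hx] at h
      exact (T.θ a).injective h
    · right
      rw [← h1, h]
  · rintro (h | h)
    · left
      rw [h, hx]
    · right
      rw [h1, h]

theorem toPanA_conj {i : I} {x : C} (a : stabA T hth hsa i x) (k : stabP Δ K i x) :
    ∃ h : a.1 (k : K) ∈ stabP Δ K i x, toPan Δ K i x ⟨a.1 k, h⟩ =
      toPanA hsa T hth i x a * toPan Δ K i x k * (toPanA hsa T hth i x a)⁻¹ := by
  have key : ∀ z : C, a.1 (k : K) • T.θ a.1 z = T.θ a.1 ((k : K) • z) := fun z => (T.θ_smul a.1 k z).symm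
  have h1 : a.1 (k : K) ∈ stabP Δ K i x := by
    intro z
    obtain ⟨w, rfl⟩ := (T.θ a.1).surjective z
    rw [key, a.2, a.2, k.2]
  refine ⟨h1, ?_⟩
  rw [eq_mul_inv_iff_mul_eq]
  apply Equiv.ext
  intro z
  exact Subtype.ext (key z)

theorem toPanA_mem_famStab {i : I} {x : C} (a : stabA T hth hsa i x) :
    toPanA hsa T hth i x a ∈ famStab (S.fam i x) := by
  have key : ∀ (a : stabA T hth hsa i x) (y : Δ.Pan i x) g, g ∈ S.fam i x y →
      toPanA hsa T hth i x a * g * (toPanA hsa T hth i x a)⁻¹ ∈ S.fam i x (toPanA hsa T hth i x a y) := by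
    intro a y g hg
    obtain ⟨u, hu, hu', rfl⟩ := exists_of_fam hsa S hg
    obtain ⟨h, h1⟩ := toPanA_conj hsa T hth a ⟨u, hu'⟩
    rw [← h1]
    refine toPan_mem_fam S (y := toPanA hsa T hth i x a y) ?_ h
    have h2 := (T.tw a.1).τ_mem_U S hu
    rw [T.τ] at h2
    exact h2
  intro y g
  refine ⟨key a y g, fun h => ?_⟩
  have h1 := key a⁻¹ _ _ h
  rw [map_inv, inv_inv] at h1
  set c := toPanA hsa T hth i x a with hc
  have h2 : c⁻¹ * (c * g * c⁻¹) * c = g := by group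
  rw [h2] at h1
  have h3 : c⁻¹ (c y) = y := c.symm_apply_apply y
  rwa [h3] at h1

variable [Finite K] {r : ℕ} [hrf : Fact r.Prime] (hr : ¬ r ∣ Nat.card K) {A : Subgroup (MulAut K)} (hA : IsPGroup r A)

/-- the image of `A` on a panel -/
def imgA (hth : Δ.Thick) (A : Subgroup (MulAut K)) (i : I) (x : C) : Subgroup (Equiv.Perm (Δ.Pan i x)) :=
  (A.subgroupOf (stabA T hth hsa i x)).map (toPanA hsa T hth i x)

include hr hA hth hsa S in
theorem star_and_pan {i : I} {x : C} (hAσ : ∀ a ∈ A, ∀ x y, Δ.δ (T.θ a x) (T.θ a y) = Δ.δ x y)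
    (hx : FixedBy T A x) (hP : PanelOK (S.fam i x)) :
    (∃ y, FixedBy T A y ∧ ∃ z, FixedBy T A z ∧ y ≠ z ∧ Δ.δ x y = cs.simple i ∧ Δ.δ x z = cs.simple i) ∧
    (∀ z : MulAut K, (∀ a ∈ A, z * a = a * z) → (∀ g ∈ fix A, z g = g) → ∀ m, ¬ r ∣ m → z ^ m = 1 →
      (∀ x y, Δ.δ (T.θ z x) (T.θ z y) = Δ.δ x y) → (∀ y, FixedBy T A y → T.θ z y = y) →
      ∀ y ∈ Δ.Pan i x, T.θ z y = y) := by
  have hAS : ∀ a ∈ A, a ∈ stabA T hth hsa i x := fun a ha => mem_stabA hsa T hth (hAσ a ha) (hx a ha)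
  have h1 := hP r (fun h => hr (h.trans (card_gen_dvd hsa S i x))) (imgA hsa T hth A i x)
    ((hA.comap_of_injective _ (stabA T hth hsa i x).subtype_injective).map _) (by
      rintro _ ⟨a, -, rfl⟩
      exact toPanA_mem_famStab hsa S T hth a)
  obtain ⟨⟨a, b, c, hab, hac, hbc, h2⟩, h3⟩ := h1
  have hfixed : ∀ y : Δ.Pan i x, (∀ g ∈ imgA hsa T hth A i x, g y = y) → FixedBy T A y := by
    intro y hy a ha
    have h4 := hy (toPanA hsa T hth i x ⟨a, hAS a ha⟩) ⟨⟨a, hAS a ha⟩, ha, rfl⟩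
    exact congrArg Subtype.val h4
  have hfixed' : ∀ y : Δ.Pan i x, FixedBy T A y → ∀ g ∈ imgA hsa T hth A i x, g y = y := by
    rintro y hy _ ⟨a, ha, rfl⟩
    exact Subtype.ext (hy a.1 ha)
  constructor
  · -- two of the three points are different from `x`
    have hxm : x ∈ Δ.Pan i x := Or.inl rfl
    have ha := hfixed a fun g hg => (h2 g hg).1
    have hb := hfixed b fun g hg => (h2 g hg).2.1
    have hc := hfixed c fun g hg => (h2 g hg).2.2
    have hab' : (a : C) ≠ b := fun h => hab (Subtype.ext h)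
    have hac' : (a : C) ≠ c := fun h => hac (Subtype.ext h)
    have hbc' : (b : C) ≠ c := fun h => hbc (Subtype.ext h)
    by_cases hax : (a : C) = x
    · exact ⟨b, hb, c, hc, hbc', δ_eq hxm b.2 (fun h => hab' (hax.trans h.symm)),
        δ_eq hxm c.2 (fun h => hac' (hax.trans h.symm))⟩
    by_cases hbx : (b : C) = x
    · exact ⟨a, ha, c, hc, hac', δ_eq hxm a.2 hax, δ_eq hxm c.2 (fun h => hbc' (hbx.trans h.symm))⟩
    exact ⟨a, ha, b, hb, hab', δ_eq hxm a.2 hax, δ_eq hxm b.2 hbx⟩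
  · intro z hz hzf m hm hzm hzσ hzfix y hy
    have hzS : z ∈ stabA T hth hsa i x := mem_stabA hsa T hth hzσ (hzfix x hx)
    have h4 := h3 (toPanA hsa T hth i x ⟨z, hzS⟩) (toPanA_mem_famStab hsa S T hth _) (by
      rintro _ ⟨a, ha, rfl⟩
      rw [← map_mul, ← map_mul]
      congr 1
      exact Subtype.ext (hz a.1 ha)) m hm (by
      rw [← map_pow]
      have : (⟨z, hzS⟩ : stabA T hth hsa i x) ^ m = 1 := Subtype.ext hzm
      rw [this, map_one]) (by
      intro y hy
      exact Subtype.ext (hzfix y (hfixed y hy))) (by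
      intro g hg hgA
      obtain ⟨k₀, rfl⟩ := exists_of_gen hsa S hg
      -- a fixed preimage
      let N : Subgroup K :=
        { carrier := {k | ∀ z ∈ Δ.Pan i x, k • z = z}
          one_mem' := fun z _ => one_smul _ _
          mul_mem' := fun {a b} ha hb z hz => by rw [mul_smul, hb z hz, ha z hz]
          inv_mem' := fun {a} ha z hz => by rw [inv_smul_eq_iff, ha z hz] }
      obtain ⟨k, hk, hkN⟩ := exists_fixed_coset hr hA N (by
        intro a ha k hk z hz
        obtain ⟨w, rfl⟩ := (T.θ a).surjective z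
        rw [← T.θ_smul, hk w ((hAS a ha w).1 hz)]) (k₀ : K) (by
        intro a ha z hz
        obtain ⟨h5, h6⟩ := toPanA_conj hsa T hth ⟨a, hAS a ha⟩ k₀
        have h7 := hgA _ ⟨⟨a, hAS a ha⟩, ha, rfl⟩
        rw [h7, mul_inv_cancel_right] at h6
        have h8 := congrArg (fun g : Equiv.Perm (Δ.Pan i x) => ((g ⟨z, hz⟩ : Δ.Pan i x) : C)) h6
        change a (k₀ : K) • z = (k₀ : K) • z at h8
        rw [mul_smul, h8, inv_smul_smul])
      have hkz : ∀ z ∈ Δ.Pan i x, k • z = (k₀ : K) • z := by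
        intro z hz
        have h5 := hkN z hz
        rw [mul_smul, inv_smul_eq_iff] at h5
        exact h5
      have hkS : k ∈ stabP Δ K i x := mem_stabP hsa x (Or.inl rfl) (by
        rw [hkz x (Or.inl rfl)]
        exact (k₀.2 x).2 (Or.inl rfl))
      have hkk : toPan Δ K i x ⟨k, hkS⟩ = toPan Δ K i x k₀ := Equiv.ext fun z => Subtype.ext (hkz z z.2)
      obtain ⟨h5, h6⟩ := toPanA_conj hsa T hth ⟨z, hzS⟩ ⟨k, hkS⟩
      have h7 : toPan Δ K i x ⟨z k, h5⟩ = toPan Δ K i x ⟨k, hkS⟩ := by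
        congr 1
        exact Subtype.ext (hzf k hk)
      rw [← hkk]
      rw [h7] at h6
      exact (eq_mul_inv_iff_mul_eq.1 h6).symm)
    have h5 := congrArg (fun g : Equiv.Perm (Δ.Pan i x) => ((g ⟨y, hy⟩ : Δ.Pan i x) : C)) h4
    exact h5

end

end Cfsg.Agent.H255.PanelBld
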