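import Cfsg.Agent.H255.Panel
import Cfsg.Agent.H255.Semi
import Cfsg.Agent.FixBN.RankOneL2

/-!
# The projective line over a field of odd order
-/

set_option autoImplicit false

namespace Cfsg.Agent.H255.PanelL2

open Cfsg.Agent.FixBN Cfsg.Agent.H255.Panel

variable {F : Type*} [Field F]

theorem rg : RG (lineFam F) where
  fix y g hg := lineFam_fix hg
  reg y a b ha hb := by
    have h1 : ∀ c : Option F, c ≠ y → ∃ s : F, (toPt y)⁻¹ c = some s := by
      intro c hc
      rcases h : (toPt y)⁻¹ c with _ | s
      · exfalso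
        apply hc
        rw [← toPt_apply y, ← h]
        exact ((toPt y).apply_symm_apply c).symm
      · exact ⟨s, rfl⟩
    obtain ⟨s, hs⟩ := h1 a ha
    obtain ⟨t, ht⟩ := h1 b hb
    refine ⟨toPt y * tr (t - s) * (toPt y)⁻¹, mem_lineFam.2 ⟨_, rfl⟩, ?_⟩
    change toPt y (tr (t - s) ((toPt y)⁻¹ a)) = b
    rw [hs, tr_some, add_sub_cancel, ← ht]
    exact (toPt y).apply_symm_apply b
  free y g hg a ha hga := by
    obtain ⟨s, rfl⟩ := mem_lineFam.1 hg
    rcases h : (toPt y)⁻¹ a with _ | t
    · exfalso
      apply ha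
      rw [← toPt_apply y, ← h]
      exact ((toPt y).apply_symm_apply a).symm
    · have h1 : toPt y (tr s ((toPt y)⁻¹ a)) = a := hga
      rw [h, tr_some] at h1
      have h2 : (toPt y)⁻¹ a = some (t + s) := by
        rw [← h1]; exact (toPt y).symm_apply_apply _
      rw [h] at h2
      have h3 : s = 0 := by
        have := Option.some_injective _ h2
        linear_combination -this
      rw [h3, tr_zero]
      group
  stab y := by
    refine le_trans (le_iSup (lineFam F) y) ?_
    rw [iSup_lineFam]
    exact psl2_le_famStab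
  three a b := by
    by_contra hcon
    push Not at hcon
    have h1 := hcon none
    have h2 := hcon (some 0)
    have h3 := hcon (some 1)
    rcases a with _ | a
    · have h4 := h2 (by simp)
      have h5 := h3 (by simp)
      rw [← h5] at h4
      exact zero_ne_one (Option.some_injective _ h4)
    · have h4 := h1 (by simp)
      subst h4
      by_cases ha : (some 0 : Option F) = some a
      · have ha' : (some 1 : Option F) ≠ some a := by
          rw [← ha]
          intro h
          exact one_ne_zero (Option.some_injective _ h)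
        exact Option.some_ne_none _ (h3 ha')
      · exact Option.some_ne_none _ (h2 ha)

/-- the torus elements `t ↦ s² t` -/
noncomputable def hh (s : F) : Equiv.Perm (Option F) := tr s * (ni * tr s⁻¹ * ni * tr s * ni)

theorem hh_some {s : F} (hs : s ≠ 0) (t : F) : hh s (some t) = some (s ^ 2 * t) := by
  change tr s ((ni * tr s⁻¹ * ni * tr s * ni : Equiv.Perm (Option F)) (some t)) = _
  rw [dil_some hs, tr_some]
  congr 1
  ring

theorem hh_none {s : F} (hs : s ≠ 0) : hh s none = none := by
  change tr s ((ni * tr s⁻¹ * ni * tr s * ni : Equiv.Perm (Option F)) none) = _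
  rw [dil_none hs, tr_none]

theorem hh_mem (s : F) : hh s ∈ psl2 F :=
  mul_mem (tr_mem _) (mul_mem (mul_mem (mul_mem (mul_mem ni_mem (tr_mem _)) ni_mem) (tr_mem _)) ni_mem)

theorem hh_pow_some {s : F} (hs : s ≠ 0) (n : ℕ) (t : F) : (hh s ^ n) (some t) = some ((s ^ 2) ^ n * t) := by
  induction n generalizing t with
  | zero => rw [pow_zero, pow_zero, one_mul]; rfl
  | succ n ih =>
    have h1 : (s ^ 2) ^ n * (s ^ 2 * t) = (s ^ 2) ^ (n + 1) * t := by ring
    rw [pow_succ, Equiv.Perm.mul_apply, hh_some hs, ih, h1]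

theorem hh_pow_none {s : F} (hs : s ≠ 0) (n : ℕ) : (hh s ^ n) none = none := by
  induction n with
  | zero => rw [pow_zero]; rfl
  | succ n ih => rw [pow_succ, Equiv.Perm.mul_apply, hh_none hs, ih]

/-- the stabiliser of the two points -/
def stab2 (F : Type*) [Field F] : Subgroup (Equiv.Perm (Option F)) where
  carrier := {c | c ∈ famStab (lineFam F) ∧ c none = none ∧ c (some 0) = some 0}
  one_mem' := ⟨one_mem _, rfl, rfl⟩
  mul_mem' := fun {a b} ha hb => ⟨mul_mem ha.1 hb.1, by
    rw [Equiv.Perm.mul_apply, hb.2.1, ha.2.1], by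
    rw [Equiv.Perm.mul_apply, hb.2.2, ha.2.2]⟩
  inv_mem' := fun {a} ha => ⟨inv_mem ha.1, by
    rw [Equiv.Perm.inv_eq_iff_eq, ha.2.1], by
    rw [Equiv.Perm.inv_eq_iff_eq, ha.2.2]⟩

theorem exists_eq {c : Equiv.Perm (Option F)} (hc : c none = none) (x : F) : ∃ y, c (some x) = some y := by
  rcases h : c (some x) with _ | y
  · exfalso
    have := c.injective (h.trans hc.symm)
    exact Option.some_ne_none _ this
  · exact ⟨y, rfl⟩

/-- the action on the affine line -/
def fn (c : stab2 F) (x : F) : F := (c.1 (some x)).getD 0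

theorem fn_spec (c : stab2 F) (x : F) : c.1 (some x) = some (fn c x) := by
  obtain ⟨y, hy⟩ := exists_eq c.2.2.1 x
  rw [fn, hy]
  rfl

theorem semilinear (h2 : (2 : F) ≠ 0) (c : stab2 F) :
    ∃ e : F, e ≠ 0 ∧ ∃ τ : F →+* F, ∀ x, fn c x = e * τ x := by
  obtain ⟨φ, T, h⟩ := RankOneL2.exists_lift_fix h2 c.2.1 c.2.2.1 c.2.2.2
  have h3 := h.act (1, 0) (by simp)
  have h4 := h.act (0, 1) (by simp)
  rw [RankOneL2.pt_zero, c.2.2.1] at h3
  rw [RankOneL2.pt_ne _ one_ne_zero, zero_div, c.2.2.2] at h4
  obtain ⟨a, b, hab⟩ : ∃ a b, T (1, 0) = (a, b) := ⟨_, _, rfl⟩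
  obtain ⟨c', d, hcd⟩ : ∃ a b, T (0, 1) = (a, b) := ⟨_, _, rfl⟩
  rw [hab] at h3
  rw [hcd] at h4
  have hb : b = 0 := by
    by_contra hb
    rw [RankOneL2.pt_ne _ hb] at h3
    exact Option.some_ne_none _ h3.symm
  have hd : d ≠ 0 := by
    rintro rfl
    rw [RankOneL2.pt_zero] at h4
    exact Option.some_ne_none _ h4
  rw [RankOneL2.pt_ne _ hd] at h4
  have hc' : c' = 0 := by
    have := Option.some_injective _ h4
    rcases div_eq_zero_iff.1 this.symm with h | h
    · exact h
    · exact absurd h hd
  subst hb hc'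
  have ha : a ≠ 0 := by
    rintro rfl
    exact RankOneL2.map_ne_zero' T (v := ((1, 0) : F × F)) (by simp) hab
  refine ⟨a / d, div_ne_zero ha hd, (φ : F →+* F), fun x => ?_⟩
  have h5 := h.act (x, 1) (by simp)
  rw [RankOneL2.pt_ne _ one_ne_zero, div_one, fn_spec] at h5
  have h6 : T (x, 1) = (φ x * a, d) := by
    have h7 : ((x, 1) : F × F) = x • ((1, 0) : F × F) + ((0, 1) : F × F) := by simp
    rw [h7, map_add, h.semi, hab, hcd]
    simp
  rw [h6, RankOneL2.pt_ne _ hd] at h5
  have h7 := Option.some_injective _ h5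
  rw [h7]
  change φ x * a / d = a / d * φ x
  ring

/-- **The projective line.** -/
theorem panelOK [Finite F] (h2 : (2 : F) ≠ 0) : PanelOK (lineFam F) := by
  classical
  refine rg.panelOK (p := none) (q := some 0) (by simp) ?_
  intro r hrf hr A hA hAU hfix
  have hodd : Odd (Nat.card F) := by
    letI : Fintype F := Fintype.ofFinite F
    rw [Nat.card_eq_fintype_card]
    have hch : ringChar F ≠ 2 := by
      intro h
      apply h2
      have := (ringChar.spec F 2).2 (by rw [h])
      exact_mod_cast this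
    exact Nat.odd_iff.2 (FiniteField.odd_card_of_char_ne_two hch)
  have hr2 : r ≠ 2 := by
    rintro rfl
    apply hr
    refine dvd_trans ?_ (rg.card_dvd (none : Option F))
    rw [Finite.card_option]
    exact even_iff_two_dvd.1 hodd.add_one
  have hrF : ¬ r ∣ Nat.card F - 1 := by
    intro hd
    rw [← Nat.card_units] at hd
    obtain ⟨t, ht⟩ := exists_prime_orderOf_dvd_card' r hd
    have hrodd : Odd r := hrf.out.odd_of_ne_two hr2
    obtain ⟨k, hk⟩ := hrodd
    let s : Fˣ := t ^ (k + 1)
    have hst : s ^ 2 = t := by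
      rw [← pow_mul, show (k + 1) * 2 = r + 1 by omega, pow_succ, ← ht, pow_orderOf_eq_one, one_mul]
    have hstF : (s : F) ^ 2 = t := by
      have := congrArg (fun x : Fˣ => (x : F)) hst
      simpa using this
    apply hr
    have h3 : orderOf (hh (s : F)) = r := by
      refine orderOf_eq_prime ?_ ?_
      · apply Equiv.ext
        rintro (_ | x)
        · rw [hh_pow_none s.ne_zero]; rfl
        · rw [hh_pow_some s.ne_zero, hstF]
          have : (t : F) ^ r = 1 := by
            rw [← Units.val_pow_eq_pow_val, ← ht, pow_orderOf_eq_one, Units.val_one]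
          rw [this, one_mul]; rfl
      · intro h
        have h4 := congrArg (fun g : Equiv.Perm (Option F) => g (some 1)) h
        have h5 : hh (s : F) (some 1) = some 1 := h4
        rw [hh_some s.ne_zero, hstF, mul_one] at h5
        have h6 : t = 1 := Units.ext (by rw [Units.val_one]; exact Option.some_injective _ h5)
        rw [h6, orderOf_one] at ht
        exact hrf.out.one_lt.ne ht
    have h4 : hh (s : F) ∈ gen (lineFam F) := by
      rw [gen, iSup_lineFam]
      exact hh_mem _
    rw [← h3]
    exact Subgroup.orderOf_dvd_natCard _ h4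
  have hAS : A ≤ stab2 F := fun a ha => ⟨hAU ha, (hfix a ha).1, (hfix a ha).2⟩
  obtain ⟨⟨w, hw, hwA⟩, hz⟩ := Semi.semi (G := stab2 F) (fun c x => fn c x) (fun x => by
      have := fn_spec (1 : stab2 F) x
      exact (Option.some_injective _ this).symm) (fun g h x => by
      have h3 := fn_spec (g * h) x
      have h4 : (g * h).1 (some x) = g.1 (h.1 (some x)) := rfl
      rw [h4, fn_spec, fn_spec] at h3
      exact (Option.some_injective _ h3).symm) (semilinear h2) hrF (A.subgroupOf (stab2 F))
      (hA.comap_of_injective _ (stab2 F).subtype_injective)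
  refine ⟨⟨none, some 0, some w, by simp, by simp, fun h => hw (Option.some_injective _ h).symm, ?_⟩, ?_⟩
  · intro g hg
    refine ⟨(hfix g hg).1, (hfix g hg).2, ?_⟩
    have h3 := hwA ⟨g, hAS hg⟩ hg
    have h4 := fn_spec ⟨g, hAS hg⟩ w
    change fn ⟨g, hAS hg⟩ w = w at h3
    rw [h3] at h4
    exact h4
  · intro z hzU hzA m hm hzm hzf _
    have hz0 : z none = none := hzf _ fun a ha => (hfix a ha).1
    have hz1 : z (some 0) = some 0 := hzf _ fun a ha => (hfix a ha).2
    have h3 := hz ⟨z, hzU, hz0, hz1⟩ m hm (Subtype.ext hzm) (by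
      intro w hw
      have h4 := fn_spec ⟨z, hzU, hz0, hz1⟩ w
      have h5 : z (some w) = some w := by
        apply hzf
        intro a ha
        have h6 := fn_spec ⟨a, hAS ha⟩ w
        have h7 := hw ⟨a, hAS ha⟩ ha
        rw [h7] at h6
        exact h6
      have h6 : z (some w) = some (fn ⟨z, hzU, hz0, hz1⟩ w) := h4
      rw [h5] at h6
      exact (Option.some_injective _ h6).symm)
    apply Equiv.ext
    rintro (_ | x)
    · exact hz0
    · have h4 := fn_spec ⟨z, hzU, hz0, hz1⟩ x
      have h5 := h3 x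
      rw [h5] at h4
      exact h4

end Cfsg.Agent.H255.PanelL2
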