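import Cfsg.Agent.H255.Galois
import Cfsg.Agent.H255.Cop
import Cfsg.Agent.LieRecognition.RankOneAbstract

/-!
# Coprime automorphisms of rank one groups

`RO p B U V w` : rank one Bruhat data `B = U T`, `w`; `U` a Sylow `p`-subgroup, `V` a characteristic subgroup of `U` with
`U / V` abelian, the two-point stabiliser `T` commutative, irreducible and faithful on `U / V`.

`RO.eq_one` : an `r`-group `A` of automorphisms, `r` prime to the order, `z` an `r'`-automorphism commuting with `A` and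
trivial on the fixed points of `A`: `z` is trivial on the normal closure of `U`.
-/

set_option autoImplicit false

namespace Cfsg.Agent.H255.RankOne

open Cfsg.Agent.LieRecognition.RankOneAbstract Cfsg.Agent.H255.Cop Cfsg.Agent.H255.Galois

/-- rank one data -/
structure RO {M : Type*} [Group M] (p : ℕ) (B U V : Subgroup M) (w : M) : Prop where
  data : Data B U w
  pr : p.Prime
  syl : ∃ P : Sylow p M, (P : Subgroup M) = U
  ab : ∀ s ∈ B, ∀ t ∈ B, w⁻¹ * s * w ∈ B → w⁻¹ * t * w ∈ B → s * t = t * s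
  le : V ≤ U
  char : ∀ α : MulAut M, (∀ u ∈ U, α u ∈ U) → ∀ v ∈ V, α v ∈ V
  quot : ∀ x ∈ U, ∀ y ∈ U, x * y * x⁻¹ * y⁻¹ ∈ V
  irr : ∀ X : Subgroup M, V ≤ X → X ≤ U →
    (∀ t ∈ B, w⁻¹ * t * w ∈ B → ∀ x ∈ X, t * x * t⁻¹ ∈ X) → X = V ∨ X = U
  fr : ∀ X : Subgroup M, X ≤ U → (∀ u ∈ U, ∃ x ∈ X, x⁻¹ * u ∈ V) → X = U
  faith : ∀ t ∈ B, w⁻¹ * t * w ∈ B → (∀ u ∈ U, t * u * t⁻¹ * u⁻¹ ∈ V) → t = 1
  cnt : ∀ r : ℕ, r.Prime → ¬ r ∣ Nat.card M → ¬ r ∣ V.relIndex U - 1

variable {M : Type*} [Group M] {p : ℕ} {B U V : Subgroup M} {w : M}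

/-- the automorphisms stabilising `U` -/
def stab (U : Subgroup M) : Subgroup (MulAut M) where
  carrier := {α | ∀ u, u ∈ U ↔ α u ∈ U}
  one_mem' := fun _ => Iff.rfl
  mul_mem' := fun {α β} hα hβ u => by rw [MulAut.mul_apply, ← hα, ← hβ]
  inv_mem' := fun {α} hα u => by rw [hα (α⁻¹ u), MulAut.apply_inv_self]

/-- restriction to `U` -/
def rs (U : Subgroup M) (α : stab U) : U ≃* U where
  toFun u := ⟨α.1 u, (α.2 u).1 u.2⟩
  invFun u := ⟨α.1.symm u, (α.2 _).2 (by rw [MulEquiv.apply_symm_apply]; exact u.2)⟩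
  left_inv u := Subtype.ext (α.1.symm_apply_apply _)
  right_inv u := Subtype.ext (α.1.apply_symm_apply _)
  map_mul' u v := Subtype.ext (map_mul (α.1 : M ≃* M) (u : M) (v : M))

theorem rs_apply (U : Subgroup M) (α : stab U) (u : U) : (rs U α u : M) = α.1 u := rfl

/-- the action on the quotient -/
noncomputable def qHom (U : Subgroup M) (N : Subgroup U) [N.Normal]
    (hN : ∀ (α : stab U) (u : U), u ∈ N → rs U α u ∈ N) : stab U →* MulAut (U ⧸ N) where
  toFun α := QuotientGroup.congr N N (rs U α) (by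
    ext x
    constructor
    · rintro ⟨u, hu, rfl⟩
      exact hN α u hu
    · intro hx
      refine ⟨rs U α⁻¹ x, hN _ _ hx, ?_⟩
      apply Subtype.ext
      change α.1 (α.1⁻¹ x) = x
      exact MulAut.apply_inv_self M α.1 (x : M))
  map_one' := by
    ext x
    induction x using QuotientGroup.induction_on with
    | _ u => rfl
  map_mul' α β := by
    ext x
    induction x using QuotientGroup.induction_on with
    | _ u => rfl

theorem qHom_mk (U : Subgroup M) (N : Subgroup U) [N.Normal]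
    (hN : ∀ (α : stab U) (u : U), u ∈ N → rs U α u ∈ N) (α : stab U) (u : U) :
    qHom U N hN α (QuotientGroup.mk u) = QuotientGroup.mk (rs U α u) := rfl

/-- the two-point stabiliser -/
def two (B : Subgroup M) (g : M) : Subgroup M where
  carrier := {t | t ∈ B ∧ g⁻¹ * t * g ∈ B}
  one_mem' := ⟨one_mem _, by simp⟩
  mul_mem' := fun {s t} hs ht => ⟨mul_mem hs.1 ht.1, by
    have : g⁻¹ * (s * t) * g = (g⁻¹ * s * g) * (g⁻¹ * t * g) := by group
    rw [this]
    exact mul_mem hs.2 ht.2⟩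
  inv_mem' := fun {t} ht => ⟨inv_mem ht.1, by
    have : g⁻¹ * t⁻¹ * g = (g⁻¹ * t * g)⁻¹ := by group
    rw [this]
    exact inv_mem ht.2⟩

theorem mem_two {B : Subgroup M} {g t : M} : t ∈ two B g ↔ t ∈ B ∧ g⁻¹ * t * g ∈ B := Iff.rfl

theorem mem_iff_of_le [Finite M] {U : Subgroup M} {α : MulAut M} (h : ∀ u ∈ U, α u ∈ U) (u : M) :
    u ∈ U ↔ α u ∈ U := by
  refine ⟨h u, fun hu => ?_⟩
  have h1 : U.map (α : M ≃* M).toMonoidHom = U := by
    apply Subgroup.eq_of_le_of_card_ge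
    · rintro _ ⟨x, hx, rfl⟩
      exact h x hx
    · rw [Nat.card_congr (U.equivMapOfInjective _ (α : M ≃* M).injective).toEquiv.symm]
  rw [← h1] at hu
  obtain ⟨x, hx, he⟩ := hu
  have : x = u := α.injective he
  rwa [← this]

theorem mem_normalizer_of {W : Type*} [Group W] {T : Subgroup W} {a : W} (h1 : ∀ t ∈ T, a * t * a⁻¹ ∈ T)
    (h2 : ∀ t ∈ T, a⁻¹ * t * a ∈ T) : a ∈ Subgroup.normalizer (T : Set W) := by
  rw [Subgroup.mem_normalizer_iff]
  intro t
  refine ⟨h1 t, fun h => ?_⟩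
  have := h2 _ h
  have h3 : a⁻¹ * (a * t * a⁻¹) * a = t := by group
  rwa [h3] at this

namespace RO

variable (R : RO p B U V w)

include R

theorem inter_conj {k x : M} (hk : k ∉ B) (hx : x ∈ U) (hxk : k⁻¹ * x * k ∈ B) : x = 1 := by
  obtain ⟨s, hs, h⟩ := R.data.bruhat k hk
  have h1 : w⁻¹ * (s⁻¹ * x * s) * w ∈ B := by
    have h2 : w⁻¹ * (s⁻¹ * x * s) * w = ((s * w)⁻¹ * k) * (k⁻¹ * x * k) * ((s * w)⁻¹ * k)⁻¹ := by group
    rw [h2]
    exact mul_mem (mul_mem h hxk) (inv_mem h)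
  have h2 := R.data.inter _ (mul_mem (mul_mem (inv_mem hs) hx) hs) h1
  have h3 : x = s * (s⁻¹ * x * s) * s⁻¹ := by group
  rw [h3, h2]
  group

theorem ne_bot [Finite M] {r : ℕ} (hr : r.Prime) (hrM : ¬ r ∣ Nat.card M) : ¬ U ≤ V := by
  intro h
  have h1 := R.cnt r hr hrM
  rw [Subgroup.relIndex_eq_one.2 h] at h1
  exact h1 (dvd_zero r)

theorem normV {u v : M} (hu : u ∈ U) (hv : v ∈ V) : u * v * u⁻¹ ∈ V :=
  R.char (MulAut.conj u) (fun x hx => mul_mem (mul_mem hu hx) (inv_mem hu)) v hv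

/-- a fixed element of `U` outside `V` -/
theorem exists_u1 [Finite M] {r : ℕ} [hr : Fact r.Prime] (hrM : ¬ r ∣ Nat.card M) (A : Subgroup (MulAut M))
    (hA : IsPGroup r A) (hAU : ∀ a ∈ A, ∀ u ∈ U, a u ∈ U) : ∃ u1, u1 ∈ U ∧ u1 ∉ V ∧ u1 ∈ fix A := by
  classical
  have hdv : ∀ H : Subgroup M, ¬ r ∣ Nat.card H := fun H h => hrM (h.trans (Subgroup.card_subgroup_dvd_card _))
  obtain ⟨u1, ⟨hu1U, hu1V⟩, hu1A⟩ := exists_fixed hA {x : M | x ∈ U ∧ x ∉ V} (fun a ha x hx =>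
    ⟨hAU a ha x hx.1, fun hax => hx.2 ((mem_iff_of_le (R.char a (hAU a ha)) x).2 hax)⟩) (by
      have h1 : Nat.card {x : M | x ∈ U ∧ x ∉ V} = Nat.card V * (V.relIndex U - 1) := by
        have h2 : Nat.card {x : M | x ∈ U ∧ x ∉ V} + Nat.card V = Nat.card U := by
          have e := Nat.card_congr (Equiv.Set.sumCompl {x : U | (x : M) ∈ V})
          rw [Nat.card_sum] at e
          have e1 : Nat.card {x : U | (x : M) ∈ V} = Nat.card V := by
            refine Nat.card_congr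
              { toFun := fun x => ⟨x.1.1, x.2⟩
                invFun := fun x => ⟨⟨x.1, R.le x.2⟩, x.2⟩
                left_inv := fun x => rfl
                right_inv := fun x => rfl }
          have e2 : Nat.card ↥({x : U | (x : M) ∈ V}ᶜ) = Nat.card {x : M | x ∈ U ∧ x ∉ V} := by
            refine Nat.card_congr
              { toFun := fun x => ⟨x.1.1, x.1.2, x.2⟩
                invFun := fun x => ⟨⟨x.1, x.2.1⟩, x.2.2⟩
                left_inv := fun x => rfl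
                right_inv := fun x => rfl }
          rw [e1, e2] at e
          omega
        have h3 : V.relIndex U * Nat.card V = Nat.card U := by
          rw [Subgroup.relIndex, mul_comm, ← Nat.card_congr (Subgroup.subgroupOfEquivOfLe R.le).toEquiv]
          exact (V.subgroupOf U).card_mul_index
        have h4 : 0 < V.relIndex U := Nat.pos_of_ne_zero fun h => by
          rw [h, zero_mul] at h3
          exact Nat.card_pos.ne' h3.symm
        obtain ⟨n, hn⟩ := Nat.exists_eq_succ_of_ne_zero h4.ne'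
        rw [hn] at h3 ⊢
        rw [Nat.succ_mul] at h3
        rw [Nat.succ_sub_one, mul_comm]
        omega
      rw [h1]
      intro h
      rcases hr.out.dvd_mul.1 h with h | h
      · exact hdv V h
      · exact R.cnt r hr.out hrM h)
  exact ⟨u1, hu1U, hu1V, hu1A⟩

/-- some conjugate of `U` is stabilised -/
theorem exists_stab [Finite M] {r : ℕ} [hr : Fact r.Prime] (hrM : ¬ r ∣ Nat.card M) (A : Subgroup (MulAut M))
    (hA : IsPGroup r A) : ∃ k0 : M, ∀ a ∈ A, ∀ u ∈ U, k0⁻¹ * a (k0 * u * k0⁻¹) * k0 ∈ U := by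
  obtain ⟨P, hP⟩ := R.syl
  have hpf : Fact p.Prime := ⟨R.pr⟩
  -- a fixed Sylow subgroup
  obtain ⟨P1, hP1⟩ : ∃ P1 : Sylow p M, ∀ a ∈ A, a • P1 = P1 := by
    have h1 : ¬ r ∣ Nat.card (Sylow p M) := by
      rw [P.card_eq_index_normalizer]
      exact fun h => hrM (h.trans (Subgroup.index_dvd_card _))
    obtain ⟨P1, hP1⟩ := hA.nonempty_fixed_point_of_prime_not_dvd_card (α := Sylow p M) h1
    exact ⟨P1, fun a ha => hP1 ⟨a, ha⟩⟩
  obtain ⟨k0, hk0⟩ := MulAction.exists_smul_eq M P P1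
  have hmem : ∀ x, x ∈ (P1 : Subgroup M) ↔ k0⁻¹ * x * k0 ∈ U := by
    intro x
    rw [← hk0, Sylow.coe_subgroup_smul, ← hP, Subgroup.mem_pointwise_smul_iff_inv_smul_mem]
    have : (MulAut.conj k0)⁻¹ • x = k0⁻¹ * x * k0 := by
      rw [← map_inv]
      change k0⁻¹ * x * k0⁻¹⁻¹ = _
      rw [inv_inv]
    rw [this]
  have hmem' : ∀ a ∈ A, ∀ x ∈ (P1 : Subgroup M), a x ∈ (P1 : Subgroup M) := by
    intro a ha x hx
    have h1 := hP1 a ha
    have h2 : a • x ∈ ((a • P1 : Sylow p M) : Subgroup M) := by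
      rw [Sylow.pointwise_smul_def]
      exact Subgroup.smul_mem_pointwise_smul x a _ hx
    rw [h1] at h2
    exact h2
  refine ⟨k0, fun a ha u hu => ?_⟩
  rw [← hmem]
  apply hmem' a ha
  rw [hmem]
  have : k0⁻¹ * (k0 * u * k0⁻¹) * k0 = u := by group
  rw [this]
  exact hu

/-- The case where `A` normalises `U`. -/
theorem eq_one_aux [Finite M] {r : ℕ} [hr : Fact r.Prime] (hrM : ¬ r ∣ Nat.card M) (A : Subgroup (MulAut M))
    (hA : IsPGroup r A) (hAU : ∀ a ∈ A, ∀ u ∈ U, a u ∈ U) (z : MulAut M) (hza : ∀ a ∈ A, z * a = a * z) {m : ℕ}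
    (hm : ¬ r ∣ m) (hzm : z ^ m = 1) (hz : ∀ x ∈ fix A, z x = x) (k u : M) (hu : u ∈ U) :
    z (k * u * k⁻¹) = k * u * k⁻¹ := by
  classical
  have hne := R.ne_bot hr.out hrM
  have hU : U ≠ ⊥ := fun h => hne (by rw [h]; exact bot_le)
  have hBn := R.data.normalizer_eq hU
  have hdv : ∀ H : Subgroup M, ¬ r ∣ Nat.card H := fun H h => hrM (h.trans (Subgroup.card_subgroup_dvd_card _))
  -- an automorphism stabilising `U` stabilises `B`
  have hstB : ∀ α : MulAut M, (∀ u ∈ U, α u ∈ U) → ∀ b ∈ B, α b ∈ B := by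
    intro α hα b hb
    rw [← hBn, Subgroup.mem_normalizer_iff]
    intro x
    have h1 := (Subgroup.mem_normalizer_iff.1 (by rw [hBn]; exact hb : b ∈ Subgroup.normalizer (U : Set M)))
      (α⁻¹ x)
    have h2 : ∀ y, y ∈ U ↔ α⁻¹ y ∈ U := fun y => by
      rw [mem_iff_of_le hα (α⁻¹ y), MulAut.apply_inv_self]
    rw [h2 x, h1, h2 (α b * x * (α b)⁻¹), map_mul, map_mul, map_inv, MulAut.inv_apply_self]
  -- (3) a fixed element outside `B`
  obtain ⟨g, hgB, hgA⟩ : ∃ g, g ∉ B ∧ g ∈ fix A := by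
    obtain ⟨g, hg, hgA⟩ := exists_fixed hA {x : M | x ∉ B} (fun a ha x hx hax => hx (by
      exact (mem_iff_of_le (hstB a (hAU a ha)) x).2 hax)) (by
      have h1 : Nat.card {x : M | x ∉ B} = Nat.card B * Nat.card U := by
        have h2 : Nat.card {x : M | x ∉ B} + Nat.card {x : M | x ∈ B} = Nat.card M := by
          have := Nat.card_congr (Equiv.Set.sumCompl {x : M | x ∈ B})
          rw [Nat.card_sum] at this
          rw [add_comm]
          exact this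
        have h3 : Nat.card {x : M | x ∈ B} = Nat.card B := rfl
        have h4 := B.card_mul_index
        rw [R.data.index] at h4
        rw [h3] at h2
        rw [mul_add, mul_one] at h4
        omega
      rw [h1]
      intro h
      rcases hr.out.dvd_mul.1 h with h | h
      · exact hdv B h
      · exact hdv U h)
    exact ⟨g, hg, hgA⟩
  -- (4) a fixed element of `U` outside `V`
  obtain ⟨u1, hu1U, hu1V, hu1A⟩ := R.exists_u1 hrM A hA hAU
  have hu1 : u1 ≠ 1 := fun h => hu1V (by rw [h]; exact one_mem _)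
  have hu1z := hz u1 hu1A
  have hgz := hz g hgA
  -- (5) `z` stabilises `U`
  have hzU : ∀ x ∈ U, z x ∈ U := by
    obtain ⟨P, hP⟩ := R.syl
    have hpf : Fact p.Prime := ⟨R.pr⟩
    obtain ⟨k, hk⟩ := MulAction.exists_smul_eq M P (z • P)
    have h1 : ∀ x, x ∈ ((z • P : Sylow p M) : Subgroup M) ↔ z⁻¹ x ∈ U := by
      intro x
      rw [Sylow.pointwise_smul_def, ← hP, Subgroup.mem_pointwise_smul_iff_inv_smul_mem]
      exact Iff.rfl
    have h2 : ∀ x, x ∈ ((z • P : Sylow p M) : Subgroup M) ↔ k⁻¹ * x * k ∈ U := by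
      intro x
      rw [← hk, Sylow.coe_subgroup_smul, ← hP, Subgroup.mem_pointwise_smul_iff_inv_smul_mem]
      have : (MulAut.conj k)⁻¹ • x = k⁻¹ * x * k := by
        rw [← map_inv]
        change k⁻¹ * x * k⁻¹⁻¹ = _
        rw [inv_inv]
      rw [this]
    have hkB : k ∈ B := by
      by_contra hkB
      have h3 : k⁻¹ * u1 * k ∈ U := by
        rw [← h2, h1]
        have : z⁻¹ u1 = u1 := by
          have h4 := congrArg (fun x => z⁻¹ x) hu1z
          simpa using h4.symm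
        rw [this]
        exact hu1U
      exact hu1 (R.inter_conj hkB hu1U (R.data.le h3))
    intro x hx
    have h3 : k⁻¹ * z x * k ∈ U := by
      rw [← h2, h1, MulAut.inv_apply_self]
      exact hx
    have h4 := R.data.norm k hkB _ h3
    have h5 : k * (k⁻¹ * z x * k) * k⁻¹ = z x := by group
    rwa [h5] at h4
  -- the two-point stabiliser
  obtain ⟨s, hs, hsg⟩ := R.data.bruhat g hgB
  have hTs : ∀ t, t ∈ B → g⁻¹ * t * g ∈ B → s⁻¹ * t * s ∈ B ∧ w⁻¹ * (s⁻¹ * t * s) * w ∈ B := by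
    intro t ht htg
    refine ⟨mul_mem (mul_mem (inv_mem (R.data.le hs)) ht) (R.data.le hs), ?_⟩
    have h2 : w⁻¹ * (s⁻¹ * t * s) * w = ((s * w)⁻¹ * g) * (g⁻¹ * t * g) * ((s * w)⁻¹ * g)⁻¹ := by group
    rw [h2]
    exact mul_mem (mul_mem hsg htg) (inv_mem hsg)
  have hTs' : ∀ t, t ∈ B → w⁻¹ * t * w ∈ B → s * t * s⁻¹ ∈ B ∧ g⁻¹ * (s * t * s⁻¹) * g ∈ B := by
    intro t ht htg
    refine ⟨mul_mem (mul_mem (R.data.le hs) ht) (inv_mem (R.data.le hs)), ?_⟩
    have h2 : g⁻¹ * (s * t * s⁻¹) * g = ((s * w)⁻¹ * g)⁻¹ * (w⁻¹ * t * w) * ((s * w)⁻¹ * g) := by group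
    rw [h2]
    exact mul_mem (mul_mem (inv_mem hsg) htg) hsg
  -- the quotient `U / V`
  let N : Subgroup U := V.subgroupOf U
  have hNn : N.Normal := ⟨fun v hv u => R.normV u.2 hv⟩
  have hcomm : ∀ a b : U ⧸ N, a * b = b * a := by
    intro a b
    induction a using QuotientGroup.induction_on with
    | _ a =>
    induction b using QuotientGroup.induction_on with
    | _ b =>
    rw [← QuotientGroup.mk_mul, ← QuotientGroup.mk_mul, QuotientGroup.eq]
    have h1 := R.quot b⁻¹ (inv_mem b.2) a⁻¹ (inv_mem a.2)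
    change ((a : M) * b)⁻¹ * (b * a) ∈ V
    have h2 : ((a : M) * b)⁻¹ * (b * a) = (b : M)⁻¹ * (a : M)⁻¹ * (b : M)⁻¹⁻¹ * (a : M)⁻¹⁻¹ := by group
    rw [h2]
    exact h1
  let hCG : CommGroup (U ⧸ N) := { (inferInstance : Group (U ⧸ N)) with mul_comm := hcomm }
  -- automorphisms
  have hst : ∀ α : MulAut M, (∀ u ∈ U, α u ∈ U) → α ∈ stab U := fun α hα => mem_iff_of_le hα
  have hNst : ∀ (α : stab U) (u : U), u ∈ N → rs U α u ∈ N := fun α u hu =>
    R.char α.1 (fun u hu => (α.2 u).1 hu) _ hu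
  let Q : stab U →* MulAut (U ⧸ N) := qHom U N hNst
  have hQmk : ∀ (α : stab U) (u : U), Q α (QuotientGroup.mk u) = QuotientGroup.mk (rs U α u) := fun α u => rfl
  let cS : B →* stab U :=
    { toFun := fun t => ⟨MulAut.conj (t : M), hst _ fun u hu => R.data.norm t t.2 u hu⟩
      map_one' := Subtype.ext (map_one _)
      map_mul' := fun s t => Subtype.ext (map_mul _ _ _) }
  have hcS : ∀ (t : B) (x : M), (cS t).1 x = t * x * t⁻¹ := fun t x => rfl
  -- the torus on `U / V`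
  let T : Subgroup (MulAut (U ⧸ N)) := ((two B g).subgroupOf B).map (Q.comp cS)
  have hTmem : ∀ (t : M) (ht : t ∈ B), g⁻¹ * t * g ∈ B → Q (cS ⟨t, ht⟩) ∈ T :=
    fun t ht htg => ⟨⟨t, ht⟩, ⟨ht, htg⟩, rfl⟩
  have hTab : ∀ σ ∈ T, ∀ τ ∈ T, σ * τ = τ * σ := by
    rintro _ ⟨t, ht, rfl⟩ _ ⟨t', ht', rfl⟩
    rw [← map_mul, ← map_mul]
    congr 1
    apply Subtype.ext
    obtain ⟨h1, h2⟩ := hTs t ht.1 ht.2
    obtain ⟨h1', h2'⟩ := hTs t' ht'.1 ht'.2
    have h3 := R.ab _ h1 _ h1' h2 h2'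
    change (t : M) * t' = t' * t
    calc (t : M) * t' = s * ((s⁻¹ * t * s) * (s⁻¹ * t' * s)) * s⁻¹ := by group
      _ = s * ((s⁻¹ * t' * s) * (s⁻¹ * t * s)) * s⁻¹ := by rw [h3]
      _ = t' * t := by group
  -- elements of the stabiliser fixing `g` normalise `T`
  have hTn : ∀ α : stab U, α.1 g = g → Q α ∈ Subgroup.normalizer (T : Set (MulAut (U ⧸ N))) := by
    have key : ∀ α : stab U, α.1 g = g → ∀ τ ∈ T, Q α * τ * (Q α)⁻¹ ∈ T := by
      rintro α hαg _ ⟨t, ht, rfl⟩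
      have hα : ∀ u ∈ U, α.1 u ∈ U := fun u hu => (α.2 u).1 hu
      have h1 : α.1 t ∈ B := hstB α.1 hα t t.2
      refine ⟨⟨α.1 t, h1⟩, ⟨h1, ?_⟩, ?_⟩
      · have h2 := hstB α.1 hα _ ht.2
        rw [map_mul, map_mul, map_inv, hαg] at h2
        exact h2
      · rw [← map_inv]
        change Q (cS _) = Q α * Q (cS t) * Q α⁻¹
        rw [← map_mul, ← map_mul]
        congr 1
        apply Subtype.ext
        ext x
        change α.1 t * x * (α.1 t)⁻¹ = α.1 (t * (α.1⁻¹ x) * t⁻¹)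
        simp
    intro α hαg
    refine mem_normalizer_of (key α hαg) fun τ hτ => ?_
    have h1 : (α⁻¹).1 g = g := by
      have h4 := congrArg (fun x => α.1⁻¹ x) hαg
      simpa using h4.symm
    have := key α⁻¹ h1 τ hτ
    rwa [map_inv, inv_inv] at this
  have hirr : ∀ X : Subgroup (U ⧸ N), (∀ τ ∈ T, ∀ x ∈ X, τ x ∈ X) → X = ⊥ ∨ X = ⊤ := by
    intro X hX
    let Y : Subgroup M := (X.comap (QuotientGroup.mk' N)).map U.subtype
    have hY : ∀ y, y ∈ Y ↔ ∃ hy : y ∈ U, (QuotientGroup.mk ⟨y, hy⟩ : U ⧸ N) ∈ X := by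
      intro y
      constructor
      · rintro ⟨u, hu, rfl⟩
        exact ⟨u.2, hu⟩
      · rintro ⟨hy, h⟩
        exact ⟨⟨y, hy⟩, h, rfl⟩
    have hVY : V ≤ Y := by
      intro v hv
      rw [hY]
      refine ⟨R.le hv, ?_⟩
      have : (QuotientGroup.mk ⟨v, R.le hv⟩ : U ⧸ N) = 1 := by
        rw [QuotientGroup.eq_one_iff]
        exact hv
      rw [this]
      exact one_mem _
    have hYU : Y ≤ U := fun y hy => ((hY y).1 hy).1
    have hconjY : ∀ x ∈ U, ∀ y ∈ Y, x * y * x⁻¹ ∈ Y := by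
      intro x hx y hy
      have h1 : x * y * x⁻¹ = (x * y * x⁻¹ * y⁻¹) * y := by group
      rw [h1]
      exact mul_mem (hVY (R.quot x hx y (hYU hy))) hy
    rcases R.irr Y hVY hYU (by
      intro t ht htw y hy
      obtain ⟨h1, h2⟩ := hTs' t ht htw
      have h3 : s * t * s⁻¹ * y * (s * t * s⁻¹)⁻¹ ∈ Y := by
        obtain ⟨hyU, hyX⟩ := (hY y).1 hy
        rw [hY]
        exact ⟨R.data.norm _ h1 _ hyU, hX _ (hTmem _ h1 h2) _ hyX⟩
      -- `s` acts trivially modulo `V`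
      have h4 : t * y * t⁻¹ = s⁻¹ * ((s * t * s⁻¹) * (s * y * s⁻¹) * (s * t * s⁻¹)⁻¹) * s⁻¹⁻¹ := by group
      rw [h4]
      apply hconjY _ (inv_mem hs)
      have h5 := hconjY s hs y hy
      obtain ⟨hyU, hyX⟩ := (hY _).1 h5
      rw [hY]
      exact ⟨R.data.norm _ h1 _ hyU, hX _ (hTmem _ h1 h2) _ hyX⟩) with h | h
    · left
      rw [Subgroup.eq_bot_iff_forall]
      intro x hx
      induction x using QuotientGroup.induction_on with
      | _ u =>
        have h1 : (u : M) ∈ Y := (hY _).2 ⟨u.2, hx⟩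
        rw [h] at h1
        rw [QuotientGroup.eq_one_iff]
        exact h1
    · right
      rw [Subgroup.eq_top_iff']
      intro x
      induction x using QuotientGroup.induction_on with
      | _ u =>
        have h1 : (u : M) ∈ Y := by rw [h]; exact u.2
        exact ((hY _).1 h1).2
  -- `A` on `U / V`
  let AQ : Subgroup (MulAut (U ⧸ N)) := (A.subgroupOf (stab U)).map Q
  have hAQ : IsPGroup r AQ := (hA.comap_subtype (K := stab U)).map Q
  let zS : stab U := ⟨z, hst z hzU⟩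
  have hzQ1 : Q zS = 1 := by
    refine descent hTab hirr AQ hAQ ?_ (Q zS) (hTn zS hgz) hm ?_
      (w0 := QuotientGroup.mk ⟨u1, hu1U⟩) ?_ ?_ ?_
    · rintro _ ⟨a, ha, rfl⟩
      exact hTn a (hgA a.1 ha)
    · rw [← map_pow, show zS ^ m = 1 from Subtype.ext hzm, map_one]
    · rw [Ne, QuotientGroup.eq_one_iff]
      exact hu1V
    · rintro _ ⟨a, ha, rfl⟩
      rw [hQmk]
      congr 1
      exact Subtype.ext (hu1A a.1 ha)
    · intro x hx
      induction x using QuotientGroup.induction_on with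
      | _ u =>
        obtain ⟨y, hyA, hy⟩ := exists_fixed_coset hrM hA V (fun a ha => R.char a (hAU a ha)) (u : M) (by
          intro a ha
          have h1 := hx (Q ⟨a, hst a (hAU a ha)⟩) ⟨⟨a, hst a (hAU a ha)⟩, ha, rfl⟩
          rw [hQmk, eq_comm, QuotientGroup.eq] at h1
          exact h1)
        have hyU : y ∈ U := by
          have : y = u * ((u : M)⁻¹ * y) := by group
          rw [this]
          exact mul_mem u.2 (R.le hy)
        have h1 : (QuotientGroup.mk u : U ⧸ N) = QuotientGroup.mk ⟨y, hyU⟩ := by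
          rw [QuotientGroup.eq]
          exact hy
        rw [h1, hQmk]
        congr 1
        exact Subtype.ext (hz y hyA)
  -- (9) `z` is trivial on the two-point stabiliser
  have hzT : ∀ t ∈ B, g⁻¹ * t * g ∈ B → z t = t := by
    intro t ht htg
    have h1 : z t ∈ B := hstB z hzU t ht
    have h1g : g⁻¹ * z t * g ∈ B := by
      have h2 := hstB z hzU _ htg
      rwa [map_mul, map_mul, map_inv, hgz] at h2
    have h2 : z t * t⁻¹ ∈ B := mul_mem h1 (inv_mem ht)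
    have h2g : g⁻¹ * (z t * t⁻¹) * g ∈ B := by
      have : g⁻¹ * (z t * t⁻¹) * g = (g⁻¹ * z t * g) * (g⁻¹ * t * g)⁻¹ := by group
      rw [this]
      exact mul_mem h1g (inv_mem htg)
    have h3 : Q (cS ⟨z t, h1⟩) = Q (cS ⟨t, ht⟩) := by
      have h4 : cS ⟨z t, h1⟩ = zS * cS ⟨t, ht⟩ * zS⁻¹ := by
        apply Subtype.ext
        ext x
        change z t * x * (z t)⁻¹ = z (t * (z⁻¹ x) * t⁻¹)
        simp
      rw [h4, map_mul, map_mul, map_inv, hzQ1, one_mul, inv_one, mul_one]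
    have h4 : ∀ u ∈ U, (z t * t⁻¹) * u * (z t * t⁻¹)⁻¹ * u⁻¹ ∈ V := by
      intro u hu
      have hu' : t⁻¹ * u * t ∈ U := by
        have := R.data.norm t⁻¹ (inv_mem ht) u hu
        rwa [inv_inv] at this
      have h5 := congrArg (fun τ : MulAut (U ⧸ N) => τ (QuotientGroup.mk ⟨t⁻¹ * u * t, hu'⟩)) h3
      change (QuotientGroup.mk ⟨z t * (t⁻¹ * u * t) * (z t)⁻¹, _⟩ : U ⧸ N) =
        QuotientGroup.mk ⟨t * (t⁻¹ * u * t) * t⁻¹, _⟩ at h5
      rw [eq_comm, QuotientGroup.eq] at h5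
      have h6 : (t * (t⁻¹ * u * t) * t⁻¹)⁻¹ * (z t * (t⁻¹ * u * t) * (z t)⁻¹) ∈ V := h5
      have h7 : (z t * t⁻¹) * u * (z t * t⁻¹)⁻¹ * u⁻¹ =
          u * ((t * (t⁻¹ * u * t) * t⁻¹)⁻¹ * (z t * (t⁻¹ * u * t) * (z t)⁻¹)) * u⁻¹ := by group
      rw [h7]
      exact R.normV hu h6
    obtain ⟨h5, h6⟩ := hTs _ h2 h2g
    have h7 := R.faith _ h5 h6 (by
      intro u hu
      have hu' : s * u * s⁻¹ ∈ U := mul_mem (mul_mem hs hu) (inv_mem hs)
      have h8 := h4 _ hu'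
      have h9 : s⁻¹ * (z t * t⁻¹) * s * u * (s⁻¹ * (z t * t⁻¹) * s)⁻¹ * u⁻¹ =
          s⁻¹ * ((z t * t⁻¹) * (s * u * s⁻¹) * (z t * t⁻¹)⁻¹ * (s * u * s⁻¹)⁻¹) * s⁻¹⁻¹ := by group
      rw [h9]
      exact R.normV (inv_mem hs) h8)
    have h8 : z t * t⁻¹ = s * (s⁻¹ * (z t * t⁻¹) * s) * s⁻¹ := by group
    rw [h7, mul_one, mul_inv_cancel] at h8
    exact mul_inv_eq_one.1 h8
  -- (10) `z` is trivial on `U`
  have hzU1 : ∀ u ∈ U, z u = u := by
    let C : Subgroup M :=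
      { carrier := {x | x ∈ U ∧ z x = x}
        one_mem' := ⟨one_mem _, map_one z⟩
        mul_mem' := fun {x y} hx hy => ⟨mul_mem hx.1 hy.1, by rw [map_mul, hx.2, hy.2]⟩
        inv_mem' := fun {x} hx => ⟨inv_mem hx.1, by rw [map_inv, hx.2]⟩ }
    have hCU : C ≤ U := fun x hx => hx.1
    have hC : C = U := by
      apply R.fr C hCU
      rcases hirr ((C.subgroupOf U).map (QuotientGroup.mk' N)) (by
        rintro _ ⟨t, ht, rfl⟩ _ ⟨x, hx, rfl⟩
        refine ⟨⟨t * x * (t : M)⁻¹, R.data.norm t t.2 _ x.2⟩, ⟨R.data.norm t t.2 _ x.2, ?_⟩, rfl⟩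
        change z ((t : M) * x * (t : M)⁻¹) = t * x * (t : M)⁻¹
        have hx2 : z x = x := hx.2
        rw [map_mul, map_mul, map_inv, hzT t ht.1 ht.2, hx2]) with h | h
      · exfalso
        have h1 : (QuotientGroup.mk ⟨u1, hu1U⟩ : U ⧸ N) ∈ (C.subgroupOf U).map (QuotientGroup.mk' N) :=
          ⟨⟨u1, hu1U⟩, ⟨hu1U, hu1z⟩, rfl⟩
        rw [h, Subgroup.mem_bot, QuotientGroup.eq_one_iff] at h1
        exact hu1V h1
      · intro u hu
        have h1 : (QuotientGroup.mk ⟨u, hu⟩ : U ⧸ N) ∈ (C.subgroupOf U).map (QuotientGroup.mk' N) := by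
          rw [h]; trivial
        obtain ⟨x, hx, he⟩ := h1
        refine ⟨x, hx, ?_⟩
        have h2 : (QuotientGroup.mk x : U ⧸ N) = QuotientGroup.mk ⟨u, hu⟩ := he
        rw [QuotientGroup.eq] at h2
        exact h2
    intro u hu
    rw [← hC] at hu
    exact hu.2
  -- (11) conclusion
  by_cases hk : k ∈ B
  · exact hzU1 _ (R.data.norm k hk u hu)
  · obtain ⟨s', hs', hk'⟩ := R.data.bruhat k hk
    -- `k = s' w b'`, `g = s w b`
    have e1 : k * u * k⁻¹ = (s' * s⁻¹) * (g * ((((s * w)⁻¹ * g)⁻¹) * (((s' * w)⁻¹ * k) * u * ((s' * w)⁻¹ * k)⁻¹) *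
        (((s * w)⁻¹ * g)⁻¹)⁻¹) * g⁻¹) * (s' * s⁻¹)⁻¹ := by group
    have h1 : ((s' * w)⁻¹ * k) * u * ((s' * w)⁻¹ * k)⁻¹ ∈ U := R.data.norm _ hk' u hu
    have h2 := R.data.norm _ (inv_mem hsg) _ h1
    rw [e1]
    set x := (((s * w)⁻¹ * g)⁻¹) * (((s' * w)⁻¹ * k) * u * ((s' * w)⁻¹ * k)⁻¹) * (((s * w)⁻¹ * g)⁻¹)⁻¹ with hx
    have h3 := hzU1 _ (mul_mem hs' (inv_mem hs))
    have h4 := hzU1 x h2
    rw [map_mul z (s' * s⁻¹ * (g * x * g⁻¹)), map_mul z (s' * s⁻¹), map_inv, h3, map_mul z (g * x), map_mul z g,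
      map_inv, hgz, h4]

/-- **Coprime automorphisms of rank one groups.** -/
theorem eq_one [Finite M] {r : ℕ} [hr : Fact r.Prime] (hrM : ¬ r ∣ Nat.card M) (A : Subgroup (MulAut M))
    (hA : IsPGroup r A) (z : MulAut M) (hza : ∀ a ∈ A, z * a = a * z) {m : ℕ}
    (hm : ¬ r ∣ m) (hzm : z ^ m = 1) (hz : ∀ x ∈ fix A, z x = x) (k u : M) (hu : u ∈ U) :
    z (k * u * k⁻¹) = k * u * k⁻¹ := by
  obtain ⟨k0, hk0⟩ := R.exists_stab hrM A hA
  let c : MulAut M := MulAut.conj k0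
  have hc : ∀ x, c x = k0 * x * k0⁻¹ := fun x => rfl
  have hci : ∀ x, c⁻¹ x = k0⁻¹ * x * k0 := fun x => by
    change (MulAut.conj k0)⁻¹ x = _
    rw [← map_inv]
    change k0⁻¹ * x * k0⁻¹⁻¹ = _
    rw [inv_inv]
  have key := R.eq_one_aux hrM (A.map (MulAut.conj c⁻¹).toMonoidHom) (hA.map _) ?_ (c⁻¹ * z * c) ?_ hm ?_ ?_
    (k0⁻¹ * k) u hu
  · have h1 : (c⁻¹ * z * c) (k0⁻¹ * k * u * (k0⁻¹ * k)⁻¹) = c⁻¹ (z (c (k0⁻¹ * k * u * (k0⁻¹ * k)⁻¹))) := rfl
    rw [h1, hc] at key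
    have h2 : k0 * (k0⁻¹ * k * u * (k0⁻¹ * k)⁻¹) * k0⁻¹ = k * u * k⁻¹ := by group
    rw [h2] at key
    have h3 := congrArg (fun x => c x) key
    simp only [MulAut.apply_inv_self] at h3
    rw [h3, hc, h2]
  · rintro _ ⟨a, ha, rfl⟩ u hu
    change (c⁻¹ * a * c⁻¹⁻¹) u ∈ U
    rw [inv_inv]
    change c⁻¹ (a (c u)) ∈ U
    rw [hci, hc]
    exact hk0 a ha u hu
  · rintro _ ⟨a, ha, rfl⟩
    change c⁻¹ * z * c * (c⁻¹ * a * c⁻¹⁻¹) = c⁻¹ * a * c⁻¹⁻¹ * (c⁻¹ * z * c)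
    have h1 := hza a ha
    calc c⁻¹ * z * c * (c⁻¹ * a * c⁻¹⁻¹) = c⁻¹ * (z * a) * c := by group
      _ = c⁻¹ * (a * z) * c := by rw [h1]
      _ = _ := by group
  · have h1 : (c⁻¹ * z * c) ^ m = c⁻¹ * z ^ m * c := by
      have := conj_pow (i := m) (a := c⁻¹) (b := z)
      rw [inv_inv] at this
      exact this
    rw [h1, hzm, mul_one, inv_mul_cancel]
  · intro x hx
    rw [fix_map, inv_inv] at hx
    change c⁻¹ (z (c x)) = x
    rw [hz _ hx, MulAut.inv_apply_self]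

/-- There are nontrivial fixed points. -/
theorem exists_fixed_ne_one [Finite M] {r : ℕ} [hr : Fact r.Prime] (hrM : ¬ r ∣ Nat.card M)
    (A : Subgroup (MulAut M)) (hA : IsPGroup r A) : ∃ x ∈ fix A, x ≠ 1 := by
  obtain ⟨k0, hk0⟩ := R.exists_stab hrM A hA
  let c : MulAut M := MulAut.conj k0
  have hc : ∀ x, c x = k0 * x * k0⁻¹ := fun x => rfl
  have hci : ∀ x, c⁻¹ x = k0⁻¹ * x * k0 := fun x => by
    change (MulAut.conj k0)⁻¹ x = _
    rw [← map_inv]
    change k0⁻¹ * x * k0⁻¹⁻¹ = _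
    rw [inv_inv]
  obtain ⟨u, hu, huV, huA⟩ := R.exists_u1 hrM (A.map (MulAut.conj c⁻¹).toMonoidHom) (hA.map _) (by
    rintro _ ⟨a, ha, rfl⟩ u hu
    change (c⁻¹ * a * c⁻¹⁻¹) u ∈ U
    rw [inv_inv]
    change c⁻¹ (a (c u)) ∈ U
    rw [hci, hc]
    exact hk0 a ha u hu)
  rw [fix_map, inv_inv] at huA
  refine ⟨c u, huA, fun h => huV ?_⟩
  have h1 : u = 1 := c.injective (by rw [h, map_one])
  rw [h1]
  exact one_mem _

end RO

end Cfsg.Agent.H255.RankOne
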