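import Cfsg.Agent.H255.ZP

/-!
# Tools for rank one data
-/

set_option autoImplicit false

namespace Cfsg.Agent.H255.RankTools

open Cfsg.Agent.LieRecognition.RankOneAbstract Cfsg.Agent.H255.RankOne

variable {M : Type*} [Group M] {p : ℕ} {B U V : Subgroup M} {w : M}

theorem exists_two (D : Data B U w) {b : M} (hb : b ∈ B) : ∃ s ∈ U, s⁻¹ * b ∈ two B w := by
  have h1 : b * w ∉ B := fun h => D.w_not_mem (by
    have := B.mul_mem (B.inv_mem hb) h
    rwa [inv_mul_cancel_left] at this)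
  obtain ⟨s, hs, h⟩ := D.bruhat _ h1
  refine ⟨s, hs, mul_mem (inv_mem (D.le hs)) hb, ?_⟩
  have : w⁻¹ * (s⁻¹ * b) * w = (s * w)⁻¹ * (b * w) := by group
  rw [this]
  exact h

theorem card_borel (D : Data B U w) : Nat.card B = Nat.card U * Nat.card (two B w) := by
  rw [← Nat.card_prod]
  symm
  refine Nat.card_congr (Equiv.ofBijective
    (fun x : U × two B w => (⟨x.1 * x.2, mul_mem (D.le x.1.2) x.2.2.1⟩ : B)) ⟨?_, ?_⟩)
  · rintro ⟨u, t⟩ ⟨u', t'⟩ h
    have h1 : (u : M) * t = u' * t' := congrArg Subtype.val h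
    have h2 : (u' : M)⁻¹ * u = t' * (t : M)⁻¹ := by
      have : (u' : M)⁻¹ * (u * t) * (t : M)⁻¹ = (u' : M)⁻¹ * (u' * t') * (t : M)⁻¹ := by rw [h1]
      calc (u' : M)⁻¹ * u = (u' : M)⁻¹ * (u * t) * (t : M)⁻¹ := by group
        _ = (u' : M)⁻¹ * (u' * t') * (t : M)⁻¹ := this
        _ = _ := by group
    have h3 : (u' : M)⁻¹ * u = 1 := D.inter _ (mul_mem (inv_mem u'.2) u.2) (by
      rw [h2]
      exact (mul_mem t'.2 (inv_mem t.2) : (t' : M) * (t : M)⁻¹ ∈ two B w).2)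
    have h4 : u = u' := Subtype.ext (inv_mul_eq_one.1 h3).symm
    subst h4
    have h5 : t = t' := Subtype.ext (mul_left_cancel h1)
    rw [h5]
  · rintro ⟨b, hb⟩
    obtain ⟨s, hs, h⟩ := exists_two D hb
    exact ⟨(⟨s, hs⟩, ⟨s⁻¹ * b, h⟩), Subtype.ext (mul_inv_cancel_left s b)⟩

theorem exists_syl [Finite M] (D : Data B U w) (hp : p.Prime) (hU : IsPGroup p U) (hne : U ≠ ⊥)
    (hT : ¬ p ∣ Nat.card (two B w)) : ∃ P : Sylow p M, (P : Subgroup M) = U := by
  have hpf : Fact p.Prime := ⟨hp⟩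
  have h1 : p ∣ Nat.card U := by
    have hn : Nontrivial U := (Subgroup.nontrivial_iff_ne_bot U).2 hne
    obtain ⟨n, hn, h⟩ := hU.nontrivial_iff_card.1 hn
    rw [h]
    exact dvd_pow_self p hn.ne'
  have h2 : U.index = Nat.card (two B w) * (Nat.card U + 1) := by
    have h3 := U.card_mul_index
    have h4 := B.card_mul_index
    rw [D.index, card_borel D, ← h3, mul_assoc] at h4
    exact (Nat.eq_of_mul_eq_mul_left Nat.card_pos h4).symm
  refine ⟨hU.toSylow (by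
    rw [h2]
    intro h
    rcases hp.dvd_mul.1 h with h | h
    · exact hT h
    · rw [Nat.dvd_add_right h1] at h
      exact hp.one_lt.ne' (Nat.dvd_one.1 h)), rfl⟩

theorem relIndex_eq [Finite M] (hle : V ≤ U) {a b : ℕ} (hV : Nat.card V = a) (hU : Nat.card U = a * b) :
    V.relIndex U = b := by
  have h1 : Nat.card V * V.relIndex U = Nat.card U := by
    rw [Subgroup.relIndex, ← Nat.card_congr (Subgroup.subgroupOfEquivOfLe hle).toEquiv]
    exact (V.subgroupOf U).card_mul_index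
  have h2 : 0 < a := by rw [← hV]; exact Nat.card_pos
  rw [hV, hU] at h1
  exact Nat.eq_of_mul_eq_mul_left h2 h1

/-- transitive tori are irreducible -/
theorem irr_of_trans (htr : ∀ x ∈ U, x ∉ V → ∀ y ∈ U, y ∉ V → ∃ t, t ∈ B ∧ w⁻¹ * t * w ∈ B ∧ y⁻¹ * (t * x * t⁻¹) ∈ V)
    (X : Subgroup M) (hVX : V ≤ X) (hXU : X ≤ U)
    (hX : ∀ t ∈ B, w⁻¹ * t * w ∈ B → ∀ x ∈ X, t * x * t⁻¹ ∈ X) : X = V ∨ X = U := by
  by_cases h : X ≤ V
  · exact Or.inl (le_antisymm h hVX)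
  · right
    obtain ⟨x, hx, hxV⟩ := Set.not_subset.1 h
    refine le_antisymm hXU fun y hy => ?_
    by_cases hyV : y ∈ V
    · exact hVX hyV
    · obtain ⟨t, ht, htw, h1⟩ := htr x (hXU hx) hxV y hy hyV
      have h2 : y = (t * x * t⁻¹) * (y⁻¹ * (t * x * t⁻¹))⁻¹ := by group
      rw [h2]
      exact mul_mem (hX t ht htw x hx) (inv_mem (hVX h1))

end Cfsg.Agent.H255.RankTools
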