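import Cfsg.Agent.H255.RankTools
import Cfsg.Agent.SuzukiRankOne.SzModel

/-!
# Suzuki groups
-/

set_option autoImplicit false

namespace Cfsg.Agent.H255.RoSz

open Cfsg.Agent.LieRecognition.RankOneAbstract Cfsg.Agent.H255.RankOne Cfsg.Agent.H255.RankTools
open Cfsg.Agent.LieRecognition.SzMatrix Cfsg.Agent.SuzukiRankOne

variable {F : Type} [Field F] {θ : F →+* F} {e : ℕ}

/-- the elements of order two and `1` -/
def V (H : Good F θ e) : Subgroup ↥(Cfsg.Lie.Sz F e) where
  carrier := {x | ∃ b, x = H.u 0 b}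
  one_mem' := ⟨0, H.u_zero.symm⟩
  mul_mem' := by
    rintro _ _ ⟨b, rfl⟩ ⟨c, rfl⟩
    exact ⟨b + c, by rw [H.u_mul]; simp⟩
  inv_mem' := by
    rintro _ ⟨b, rfl⟩
    exact ⟨b, by rw [H.u_inv]; simp⟩

theorem mem_V (H : Good F θ e) (a b : F) : H.u a b ∈ V H ↔ a = 0 := by
  constructor
  · rintro ⟨c, hc⟩
    exact (H.u_inj hc).1
  · rintro rfl
    exact ⟨b, rfl⟩

theorem mem_V_iff (H : Good F θ e) {x : ↥(Cfsg.Lie.Sz F e)} : x ∈ V H ↔ x ∈ H.unip ∧ x * x = 1 := by
  constructor
  · rintro ⟨b, rfl⟩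
    refine ⟨H.u_mem_unip _ _, ?_⟩
    rw [H.u_mul, H.add_self, H.add_self, zero_mul, add_zero, H.u_zero]
  · rintro ⟨hx, h⟩
    obtain ⟨a, b, rfl⟩ := (H.mem_unip_iff _).1 hx
    rw [mem_V]
    rw [H.u_mul, H.add_self, H.add_self, zero_add, ← H.u_zero] at h
    have h1 := (H.u_inj h).2
    rcases mul_eq_zero.1 h1 with h2 | h2
    · exact h2
    · exact (map_eq_zero θ).1 h2

theorem d_conj (H : Good F θ e) (k : Fˣ) (a b : F) :
    H.d k * H.u a b * (H.d k)⁻¹ = H.u (a * k ^ 2 * (θ k)⁻¹) (b * θ k) := by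
  rw [H.d_mul_u, mul_inv_cancel_right]

theorem exists_scale [Finite F] (H : Good F θ e) {c : F} (hc : c ≠ 0) : ∃ k : Fˣ, c = (k : F) ^ 2 * (θ k)⁻¹ := by
  -- `x ↦ x² / θ x = θ (θ x) / θ x = θ (θ x / x)`
  have hinj : Function.Injective (fun k : Fˣ => k ^ 2 * (Units.map (θ : F →* F) k)⁻¹) := by
    have hh : Function.Injective (MonoidHom.mk' (fun k : Fˣ => k ^ 2 * (Units.map (θ : F →* F) k)⁻¹) (fun k l => by
        rw [map_mul, mul_inv, mul_pow]
        exact mul_mul_mul_comm _ _ _ _)) := by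
      rw [injective_iff_map_eq_one]
      intro k hk
      have h1 : (k : F) ^ 2 * (θ k)⁻¹ = 1 := by
        have := congrArg (fun x : Fˣ => (x : F)) hk
        simpa using this
      have h2 : (k : F) ^ 2 = θ k := by
        have h3 : θ (k : F) ≠ 0 := theta_ne_zero θ k
        field_simp at h1
        exact h1
      -- `θ k = k²`, `θ θ k = k⁴ = k²`
      have h3 : θ (θ (k : F)) = (k : F) ^ 2 := H.sq _
      rw [← h2, map_pow, ← h2] at h3
      have h4 : (k : F) ^ 2 = 1 := by
        have h5 : (k : F) ^ 2 * ((k : F) ^ 2 - 1) = 0 := by ring_nf; ring_nf at h3; rw [h3]; ring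
        rcases mul_eq_zero.1 h5 with h6 | h6
        · exact absurd h6 (pow_ne_zero 2 k.ne_zero)
        · exact sub_eq_zero.1 h6
      apply Units.ext
      rw [Units.val_one]
      have h5 : ((k : F) - 1) ^ 2 = 0 := by
        have h0 := H.two
        linear_combination h4 + (1 - (k : F)) * h0
      exact sub_eq_zero.1 (pow_eq_zero_iff (two_ne_zero) |>.1 h5)
    exact hh
  have hsurj := Finite.injective_iff_surjective.1 hinj
  obtain ⟨k, hk⟩ := hsurj (Units.mk0 c hc)
  refine ⟨k, ?_⟩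
  have := congrArg (fun x : Fˣ => (x : F)) hk
  simpa using this.symm

theorem mem_two_iff (H : Good F θ e) {g : ↥(Cfsg.Lie.Sz F e)} : g ∈ H.borel → (H.w)⁻¹ * g * H.w ∈ H.borel →
    ∃ k, g = H.d k := fun h1 h2 => by
  obtain ⟨k, hk⟩ := (SzModel.mem_torus_iff H g).2 ⟨h1, h2⟩
  exact ⟨k, hk.symm⟩

theorem d_two (H : Good F θ e) (k : Fˣ) : (H.w)⁻¹ * H.d k * H.w ∈ H.borel :=
  ((SzModel.mem_torus_iff H _).1 ⟨k, rfl⟩).2

theorem ro [Finite F] (H : Good F θ e) : RO 2 H.borel H.unip (V H) H.w where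
  data := SzModel.data H
  pr := Nat.prime_two
  syl := by
    have hev := SzModel.even_card_of_two H.two
    have hcard : ∃ n : ℕ, Nat.card F = 2 ^ n := by
      have : CharP F 2 := CharTwo.of_one_ne_zero_of_two_eq_zero one_ne_zero H.two
      letI : Fintype F := Fintype.ofFinite F
      obtain ⟨n, -, hn⟩ := FiniteField.card F 2
      exact ⟨n, by rw [Nat.card_eq_fintype_card, hn]⟩
    refine exists_syl (SzModel.data H) Nat.prime_two ?_ ?_ ?_
    · obtain ⟨n, hn⟩ := hcard
      refine IsPGroup.of_card (n := n * 2) ?_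
      rw [H.card_unip, hn, pow_mul]
    · intro h
      have h1 : H.u 1 0 ∈ H.unip := H.u_mem_unip _ _
      rw [h] at h1
      have h2 : H.u 1 0 = H.u 0 0 := by rw [H.u_zero]; exact h1
      exact one_ne_zero (H.u_inj h2).1
    · have h1 : Nat.card (two H.borel H.w) = Nat.card Fˣ := by
        symm
        refine Nat.card_congr (Equiv.ofBijective (fun k : Fˣ => (⟨H.d k, H.d_mem_borel k, d_two H k⟩ :
          two H.borel H.w)) ⟨fun k l h => H.d_inj (congrArg Subtype.val h), ?_⟩)
        rintro ⟨g, hg1, hg2⟩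
        obtain ⟨k, hk⟩ := mem_two_iff H hg1 hg2
        exact ⟨k, Subtype.ext hk.symm⟩
      rw [h1, Nat.card_units]
      intro h
      have h2 : Odd (Nat.card F - 1) := Nat.Even.sub_odd Nat.card_pos hev odd_one
      exact (Nat.not_even_iff_odd.2 h2) (even_iff_two_dvd.2 h)
  ab s hs t ht hs' ht' := by
    obtain ⟨k, rfl⟩ := mem_two_iff H hs hs'
    obtain ⟨l, rfl⟩ := mem_two_iff H ht ht'
    rw [H.d_mul, H.d_mul, mul_comm]
  le := by
    rintro _ ⟨b, rfl⟩
    exact H.u_mem_unip _ _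
  char α hα v hv := by
    rw [mem_V_iff] at hv ⊢
    exact ⟨hα v hv.1, by rw [← map_mul, hv.2, map_one]⟩
  quot x hx y hy := by
    obtain ⟨a, b, rfl⟩ := (H.mem_unip_iff _).1 hx
    obtain ⟨c, d, rfl⟩ := (H.mem_unip_iff _).1 hy
    rw [H.u_inv, H.u_inv, H.u_mul, H.u_mul, H.u_mul, mem_V]
    have h0 := H.two
    linear_combination (a + c) * h0
  irr := irr_of_trans fun x hx hxV y hy hyV => by
    obtain ⟨a, b, rfl⟩ := (H.mem_unip_iff _).1 hx
    obtain ⟨c, d, rfl⟩ := (H.mem_unip_iff _).1 hy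
    rw [mem_V] at hxV hyV
    obtain ⟨k, hk⟩ := exists_scale H (c := c / a) (div_ne_zero hyV hxV)
    refine ⟨H.d k, H.d_mem_borel k, d_two H k, ?_⟩
    rw [d_conj, H.u_inv, H.u_mul, mem_V, mul_assoc, ← hk, mul_div_cancel₀ _ hxV, H.add_self]
  fr X hX h := by
    refine le_antisymm hX ?_
    have hlift : ∀ a, ∃ b, H.u a b ∈ X := by
      intro a
      obtain ⟨x, hx, hxV⟩ := h (H.u a 0) (H.u_mem_unip _ _)
      obtain ⟨c, d, rfl⟩ := (H.mem_unip_iff _).1 (hX hx)
      rw [H.u_inv, H.u_mul, mem_V] at hxV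
      have : c = a := by
        have h0 := H.two
        linear_combination hxV - a * h0
      subst this
      exact ⟨d, hx⟩
    have hV : ∀ b, H.u 0 b ∈ X := by
      intro b
      -- `b = a θ a`
      obtain ⟨a, ha⟩ : ∃ a, b = a * θ a := by
        by_cases hb : b = 0
        · exact ⟨0, by rw [hb, zero_mul]⟩
        have hinj : Function.Injective (MonoidHom.mk' (fun k : Fˣ => k * (Units.map (θ : F →* F) k)) (fun k l => by
            rw [map_mul]
            exact mul_mul_mul_comm _ _ _ _)) := by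
          rw [injective_iff_map_eq_one]
          intro k hk
          have h1 : (k : F) * (θ k) = 1 := by
            have := congrArg (fun x : Fˣ => (x : F)) hk
            simpa using this
          -- `θ k = k⁻¹`, so `k² = θ θ k = k`
          have h2 : θ (k : F) = (k : F)⁻¹ := eq_inv_of_mul_eq_one_right h1
          have h3 : θ (θ (k : F)) = (k : F) ^ 2 := H.sq _
          rw [h2, map_inv₀, h2, inv_inv] at h3
          apply Units.ext
          rw [Units.val_one]
          have h4 : (k : F) * ((k : F) - 1) = 0 := by linear_combination -h3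
          rcases mul_eq_zero.1 h4 with h5 | h5
          · exact absurd h5 k.ne_zero
          · exact sub_eq_zero.1 h5
        obtain ⟨k, hk⟩ := Finite.injective_iff_surjective.1 hinj (Units.mk0 b hb)
        refine ⟨k, ?_⟩
        have := congrArg (fun x : Fˣ => (x : F)) hk
        simpa using this.symm
      obtain ⟨c, hc⟩ := hlift a
      have h1 := mul_mem hc hc
      rw [H.u_mul, H.add_self, H.add_self, zero_add, ← ha] at h1
      exact h1
    intro u hu
    obtain ⟨a, b, rfl⟩ := (H.mem_unip_iff _).1 hu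
    obtain ⟨c, hc⟩ := hlift a
    have h1 := mul_mem hc (hV (c + b))
    rw [H.u_mul, map_zero, mul_zero, add_zero, add_zero] at h1
    have h2 : c + (c + b) = b := by rw [← add_assoc, H.add_self, zero_add]
    rwa [h2] at h1
  faith t ht ht' h := by
    obtain ⟨k, rfl⟩ := mem_two_iff H ht ht'
    have h1 := h (H.u 1 0) (H.u_mem_unip _ _)
    rw [d_conj, H.u_inv, H.u_mul, mem_V, one_mul] at h1
    have h2 : (k : F) ^ 2 * (θ k)⁻¹ = 1 := by
      have h0 := H.two
      linear_combination h1 - h0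
    have h3 : (k : F) ^ 2 = θ k := by
      have h3 : θ (k : F) ≠ 0 := theta_ne_zero θ k
      field_simp at h2
      exact h2
    have h4 : θ (θ (k : F)) = (k : F) ^ 2 := H.sq _
    rw [← h3, map_pow, ← h3] at h4
    have h5 : (k : F) ^ 2 = 1 := by
      have h5 : (k : F) ^ 2 * ((k : F) ^ 2 - 1) = 0 := by linear_combination h4
      rcases mul_eq_zero.1 h5 with h6 | h6
      · exact absurd h6 (pow_ne_zero 2 k.ne_zero)
      · exact sub_eq_zero.1 h6
    have h6 : k = 1 := by
      apply Units.ext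
      rw [Units.val_one]
      have h5 : ((k : F) - 1) ^ 2 = 0 := by
        have h0 := H.two
        linear_combination h5 + (1 - (k : F)) * h0
      exact sub_eq_zero.1 (pow_eq_zero_iff (two_ne_zero) |>.1 h5)
    rw [h6, H.d_one]
  cnt r hr hrM := by
    have hV : Nat.card (V H) = Nat.card F := by
      symm
      refine Nat.card_congr (Equiv.ofBijective (fun b : F => (⟨H.u 0 b, b, rfl⟩ : V H))
        ⟨fun b c h => (H.u_inj (congrArg Subtype.val h)).2, ?_⟩)
      rintro ⟨_, b, rfl⟩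
      exact ⟨b, rfl⟩
    rw [relIndex_eq (by
      rintro _ ⟨b, rfl⟩
      exact H.u_mem_unip _ _) hV (by rw [H.card_unip, sq]), ← Nat.card_units]
    intro h
    apply hrM
    refine h.trans ?_
    have h1 : Nat.card (SzModel.diag H).range = Nat.card Fˣ :=
      (Nat.card_congr (MonoidHom.ofInjective (f := SzModel.diag H) (fun k l h => H.d_inj h)).toEquiv).symm
    rw [← h1]
    exact Subgroup.card_subgroup_dvd_card _

/-- **Suzuki groups.** -/
theorem zp {G : Type*} [Group G] [IsSimpleGroup G] (h : Cfsg.Lie.IsoSuzuki G) : ZP G := by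
  obtain ⟨F, i1, i2, m, hm, hF, ⟨e⟩⟩ := h
  have H := good hF
  have hs : IsSimpleGroup ↥(Cfsg.Lie.Sz F (2 ^ (m + 1))) := e.symm.isSimpleGroup
  exact (ZP.of_ro (ro H)).of_equiv e.symm

end Cfsg.Agent.H255.RoSz
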