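import Cfsg.Agent.H255.RankOne

/-!
# The property `ZP`

`ZP K` : for every prime `r` not dividing `|K|` and every `r`-group `A` of automorphisms of `K`: `A` has a nontrivial
fixed point, and an `r'`-automorphism `z` commuting with `A` and trivial on the fixed points of `A` is trivial.
-/

set_option autoImplicit false

namespace Cfsg.Agent.H255

open Cop RankOne

/-- Fixed points of coprime `r`-groups of automorphisms are large. -/
def ZP (K : Type*) [Group K] : Prop :=
  ∀ (r : ℕ) [Fact r.Prime], ¬ r ∣ Nat.card K → ∀ A : Subgroup (MulAut K), IsPGroup r A →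
    (∃ x ∈ fix A, x ≠ 1) ∧ ∀ z : MulAut K, (∀ a ∈ A, z * a = a * z) → ∀ m : ℕ, ¬ r ∣ m → z ^ m = 1 →
      (∀ x ∈ fix A, z x = x) → z = 1

theorem ZP.of_equiv {K L : Type*} [Group K] [Group L] (e : K ≃* L) (h : ZP K) : ZP L := by
  intro r hr hrL A hA
  have hc : Nat.card K = Nat.card L := Nat.card_congr e.toEquiv
  let c : MulAut L ≃* MulAut K := MulAut.congr e.symm
  have hcx : ∀ (a : MulAut L) (x : K), c a x = e.symm (a (e x)) := fun a x => rfl
  obtain ⟨⟨x, hx, hx1⟩, h2⟩ := h r (by rwa [hc]) (A.map c.toMonoidHom) (hA.map _)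
  have hfix : ∀ y : K, y ∈ fix (A.map c.toMonoidHom) ↔ e y ∈ fix A := by
    intro y
    constructor
    · intro h a ha
      have h1 := h _ ⟨a, ha, rfl⟩
      change c a y = y at h1
      rw [hcx] at h1
      exact (e.symm_apply_eq.1 h1)
    · rintro h _ ⟨a, ha, rfl⟩
      change c a y = y
      rw [hcx, h a ha, e.symm_apply_apply]
  refine ⟨⟨e x, (hfix x).1 hx, fun h => hx1 (e.injective (by rw [h, map_one]))⟩, ?_⟩
  intro z hz m hm hzm hzf
  have h3 := h2 (c z) (by
    rintro _ ⟨a, ha, rfl⟩
    change c z * c a = c a * c z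
    rw [← map_mul, hz a ha, map_mul]) m hm (by rw [← map_pow, hzm, map_one]) (by
    intro y hy
    rw [hcx, hzf _ ((hfix y).1 hy), e.symm_apply_apply])
  exact c.injective (by rw [h3, map_one])

/-- Rank one groups. -/
theorem ZP.of_ro {M : Type*} [Group M] [Finite M] [IsSimpleGroup M] {p : ℕ} {B U V : Subgroup M} {w : M}
    (R : RO p B U V w) : ZP M := by
  intro r hr hrM A hA
  refine ⟨R.exists_fixed_ne_one hrM A hA, ?_⟩
  intro z hza m hm hzm hz
  let F : Subgroup M :=
    { carrier := {x | z x = x}
      one_mem' := map_one z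
      mul_mem' := fun {x y} (hx : z x = x) (hy : z y = y) => by
        change z (x * y) = x * y
        rw [map_mul, hx, hy]
      inv_mem' := fun {x} (hx : z x = x) => by
        change z x⁻¹ = x⁻¹
        rw [map_inv, hx] }
  have h1 : Subgroup.normalClosure (U : Set M) ≤ F := by
    rw [Subgroup.normalClosure, Subgroup.closure_le]
    rintro x hx
    obtain ⟨u, hu, hux⟩ := Group.mem_conjugatesOfSet_iff.1 hx
    obtain ⟨k, hk⟩ := isConj_iff.1 hux
    rw [← hk]
    exact R.eq_one hrM A hA z hza hm hzm hz k u hu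
  have h2 : Subgroup.normalClosure (U : Set M) = ⊤ := by
    rcases (Subgroup.normalClosure_normal (s := (U : Set M))).eq_bot_or_eq_top with h | h
    · exfalso
      apply R.ne_bot hr.out hrM
      intro u hu
      have h3 := Subgroup.subset_normalClosure (s := (U : Set M)) hu
      rw [h] at h3
      have h4 : u = 1 := h3
      rw [h4]
      exact one_mem _
    · exact h
  ext x
  have h3 : x ∈ F := h1 (by rw [h2]; trivial)
  exact h3

end Cfsg.Agent.H255
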